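import Cfsg.Prelude.Def_CaseTheorems
import Cfsg.Agent.Solvable.Basics
import Cfsg.Agent.Solvable.Hall
import Cfsg.Agent.Transfer.Basic
import Mathlib.GroupTheory.PGroup
import Mathlib.GroupTheory.Sylow

/-!
Groups in which every subgroup of order prime to `p` is abelian of exponent dividing `p - 1`:
inheritance, and the facts common to the odd and even order cases of a minimal counterexample.
-/

set_option autoImplicit false
set_option linter.style.haveILetI false
set_option linter.unusedSectionVars false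

namespace CfsgLib.PPrimeAb

open Subgroup Pointwise

universe u

/-- Every subgroup of order prime to `p` is abelian of exponent dividing `p - 1`. -/
def Hyp (p : ℕ) (G : Type u) [Group G] : Prop :=
  ∀ H : Subgroup G, (Nat.card ↥H).Coprime p → IsMulCommutative ↥H ∧ ∀ x ∈ H, x ^ (p - 1) = 1

/-- A minimal counterexample. -/
structure Ctx (p : ℕ) (G : Type u) [Group G] : Prop where
  hp5 : 5 ≤ p
  hyp : Hyp p G
  hmin : Cfsg.IsMinimalSimple G
  hdvd : p ∣ Nat.card G

section General

variable {G : Type u} [Group G] [Finite G] {p : ℕ} [hp : Fact p.Prime]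

theorem Hyp.comm (h : Hyp p G) {H : Subgroup G} (hH : (Nat.card H).Coprime p) {a b : G} (ha : a ∈ H)
    (hb : b ∈ H) : a * b = b * a := by
  haveI := (h H hH).1
  exact setLike_mul_comm ha hb

theorem Hyp.subgroup (h : Hyp p G) (L : Subgroup G) : Hyp p L := by
  intro H hH
  have hc : (Nat.card (H.map L.subtype)).Coprime p := by rwa [card_map_of_injective L.subtype_injective]
  obtain ⟨-, h2⟩ := h _ hc
  refine ⟨⟨⟨fun a b => Subtype.ext (Subtype.ext ?_)⟩⟩, fun x hx => Subtype.ext ?_⟩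
  · exact h.comm hc (mem_map_of_mem L.subtype a.2) (mem_map_of_mem L.subtype b.2)
  · simpa using h2 _ (mem_map_of_mem L.subtype hx)

/-- A subgroup of order prime to `p` in a homomorphic image of a solvable group satisfying the
hypothesis is abelian of exponent dividing `p - 1`. -/
theorem Hyp.of_image {X : Type u} [Group X] [Finite X] (h : Hyp p G) (f : G →* X)
    (hf : Function.Surjective f) {K : Subgroup X} (hK : (Nat.card K).Coprime p)
    (hsol : Group.IsSolvable ↥(K.comap f)) : IsMulCommutative K ∧ ∀ x ∈ K, x ^ (p - 1) = 1 := by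
  haveI := hsol
  set L := K.comap f
  obtain ⟨H, h1, h2, -⟩ := CfsgLib.Hall.hall_pi (G := L) (fun q => q ≠ p)
  have hHc : (Nat.card H).Coprime p :=
    (hp.out.coprime_iff_not_dvd.2 fun hd => h1 p hp.out hd rfl).symm
  set f' : L →* K := f.subgroupComap K
  have hf' : Function.Surjective f' := f.subgroupComap_surjective_of_surjective K hf
  have htop : H.map f' = ⊤ := by
    rw [← index_eq_one]
    by_contra hne
    obtain ⟨q, hq, hqd⟩ := Nat.exists_prime_and_dvd hne
    have hqp : q = p := not_not.1 (h2 q hq (hqd.trans (index_map_dvd H hf')))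
    subst hqp
    exact hp.out.coprime_iff_not_dvd.1 hK.symm (hqd.trans (index_dvd_card _))
  have hmap : (Nat.card (H.map L.subtype)).Coprime p := by
    rwa [card_map_of_injective L.subtype_injective]
  obtain ⟨-, hexp⟩ := h _ hmap
  have hpre : ∀ k : K, ∃ g ∈ H.map L.subtype, f g = k := by
    intro k
    obtain ⟨l, hl, rfl⟩ := (htop ▸ mem_top k : k ∈ H.map f')
    exact ⟨l, mem_map_of_mem _ hl, rfl⟩
  refine ⟨⟨⟨fun a b => Subtype.ext ?_⟩⟩, fun x hx => ?_⟩
  · obtain ⟨u, hu, hua⟩ := hpre a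
    obtain ⟨v, hv, hvb⟩ := hpre b
    show (a : X) * b = b * a
    rw [← hua, ← hvb, ← map_mul, ← map_mul, h.comm hmap hu hv]
  · obtain ⟨u, hu, hux⟩ := hpre ⟨x, hx⟩
    simp only at hux
    rw [← hux, ← map_pow, hexp u hu, map_one]

theorem Hyp.of_isPGroup (h : Hyp p G) {q : ℕ} [hq : Fact q.Prime] (hqp : q ≠ p) {A : Subgroup G}
    (hA : IsPGroup q A) : IsMulCommutative A ∧ ∀ x ∈ A, x ^ (p - 1) = 1 := by
  obtain ⟨k, hk⟩ := IsPGroup.iff_card.1 hA
  exact h A (hk ▸ ((Nat.coprime_primes hq.out hp.out).2 hqp).pow_left k)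

theorem coprime_of_isPGroup {q : ℕ} [hq : Fact q.Prime] (hqp : q ≠ p) {A : Subgroup G}
    (hA : IsPGroup q A) : (Nat.card A).Coprime p := by
  obtain ⟨k, hk⟩ := IsPGroup.iff_card.1 hA
  exact hk ▸ ((Nat.coprime_primes hq.out hp.out).2 hqp).pow_left k

theorem Hyp.prime_dvd_pred (h : Hyp p G) {q : ℕ} [hq : Fact q.Prime] (hqp : q ≠ p) (hd : q ∣ Nat.card G) :
    q ∣ p - 1 := by
  obtain ⟨x, hx⟩ := exists_prime_orderOf_dvd_card' q hd
  have hc : (Nat.card (zpowers x)).Coprime p := by
    rw [Nat.card_zpowers, hx]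
    exact (Nat.coprime_primes hq.out hp.out).2 hqp
  exact hx ▸ orderOf_dvd_of_pow_eq_one ((h _ hc).2 x (mem_zpowers x))

/-- An element of order prime to `p` normalizing a subgroup of order prime to `p` centralizes it. -/
theorem Hyp.centralizes (h : Hyp p G) {A : Subgroup G} (hA : (Nat.card A).Coprime p) {g : G}
    (hg : g ∈ normalizer (A : Set G)) (hgo : (orderOf g).Coprime p) :
    g ∈ centralizer (A : Set G) := by
  have hc : (Nat.card ↥(zpowers g ⊔ A)).Coprime p :=
    Nat.Coprime.coprime_dvd_left (CfsgLib.Solvable.card_sup_dvd (zpowers_le.2 hg))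
      (Nat.Coprime.mul_left (by rwa [Nat.card_zpowers]) hA)
  exact mem_centralizer_iff.2 fun a ha =>
    h.comm hc (mem_sup_right ha) (mem_sup_left (mem_zpowers g))

/-- A `p`-power of an element normalizing a `p'`-subgroup centralizes it. -/
theorem Hyp.exists_pow_centralizes (h : Hyp p G) {A : Subgroup G} (hA : (Nat.card A).Coprime p) {g : G}
    (hg : g ∈ normalizer (A : Set G)) :
    ∃ k m : ℕ, ¬ p ∣ m ∧ orderOf g = p ^ k * m ∧ g ^ p ^ k ∈ centralizer (A : Set G) := by
  obtain ⟨k, m, hm, hn⟩ := Nat.exists_eq_pow_mul_and_not_dvd (orderOf_pos g).ne' p hp.out.one_lt.ne'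
  refine ⟨k, m, hm, hn, h.centralizes hA (pow_mem hg _) ?_⟩
  rw [orderOf_pow, hn, Nat.gcd_eq_right (dvd_mul_right _ _), Nat.mul_div_cancel_left _ (pow_pos hp.out.pos k)]
  exact (hp.out.coprime_iff_not_dvd.2 hm).symm

theorem mem_of_pow_mem {H : Subgroup G} {g : G} {a b : ℕ} (hab : a.Coprime b) (ha : g ^ a ∈ H)
    (hb : g ^ b ∈ H) : g ∈ H := by
  have h := Nat.gcd_eq_gcd_ab a b
  rw [hab] at h
  have hg : g = (g ^ a) ^ Nat.gcdA a b * (g ^ b) ^ Nat.gcdB a b := by
    rw [← zpow_natCast g a, ← zpow_natCast g b, ← zpow_mul, ← zpow_mul, ← zpow_add, ← h]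
    simp
  rw [hg]
  exact mul_mem (zpow_mem ha _) (zpow_mem hb _)

/-- A `p`-element normalizing and not centralizing a `p'`-subgroup. -/
theorem Hyp.exists_pElement (h : Hyp p G) {A : Subgroup G} (hA : (Nat.card A).Coprime p) {g : G}
    (hg : g ∈ normalizer (A : Set G)) (hgc : g ∉ centralizer (A : Set G)) :
    ∃ x ∈ normalizer (A : Set G), x ∉ centralizer (A : Set G) ∧ ∃ k : ℕ, orderOf x = p ^ k := by
  obtain ⟨k, m, hm, hn, hc⟩ := h.exists_pow_centralizes hA hg
  refine ⟨g ^ m, pow_mem hg _, fun hx => hgc ?_, k, ?_⟩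
  · exact mem_of_pow_mem ((hp.out.coprime_iff_not_dvd.2 hm).pow_left k) hc hx
  · have hm0 : 0 < m := Nat.pos_of_ne_zero fun e => hm (e ▸ dvd_zero p)
    rw [orderOf_pow, hn, Nat.gcd_eq_right (dvd_mul_left _ _), Nat.mul_div_cancel _ hm0]

/-- `Ω₁` of an abelian subgroup. -/
theorem exists_omega {q : ℕ} {Q : Subgroup G} (hQ : IsMulCommutative Q) :
    ∃ V : Subgroup G, V ≤ Q ∧ Cfsg.IsElementaryAbelian q V ∧ ∀ v ∈ Q, v ^ q = 1 → v ∈ V := by
  have hc : ∀ a ∈ Q, ∀ b ∈ Q, Commute a b := fun a ha b hb => setLike_mul_comm ha hb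
  let V : Subgroup G :=
    { carrier := {v | v ∈ Q ∧ v ^ q = 1}
      one_mem' := ⟨Q.one_mem, one_pow _⟩
      mul_mem' := fun {a b} ha hb => ⟨Q.mul_mem ha.1 hb.1, by
        rw [(hc a ha.1 b hb.1).mul_pow, ha.2, hb.2, one_mul]⟩
      inv_mem' := fun {a} ha => ⟨Q.inv_mem ha.1, by rw [inv_pow, ha.2, inv_one]⟩ }
  exact ⟨V, fun v hv => hv.1, ⟨⟨⟨fun a b => Subtype.ext (hc a a.2.1 b b.2.1)⟩⟩, fun v hv => hv.2⟩,
    fun v hv hv' => ⟨hv, hv'⟩⟩

/-- A normalizer of `Q` normalizes its `Ω₁`. -/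
theorem omega_normalizer {q : ℕ} {Q V : Subgroup G} (hVQ : V ≤ Q) (hV : Cfsg.IsElementaryAbelian q V)
    (hmax : ∀ v ∈ Q, v ^ q = 1 → v ∈ V) : normalizer (Q : Set G) ≤ normalizer (V : Set G) := by
  intro g hg
  refine mem_normalizer_iff_map_conj_eq.2 (CfsgLib.Solvable.eq_of_le_of_card_le ?_
    (card_map_of_injective (MulAut.conj g).injective).ge)
  rintro _ ⟨v, hv, rfl⟩
  refine hmax _ ((mem_normalizer_iff.1 hg v).1 (hVQ hv)) ?_
  rw [← map_pow, hV.2 v hv, map_one]

/-- `O_{p'}(H)` inside the ambient group. -/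
def core (p : ℕ) (H : Subgroup G) : Subgroup G := (Cfsg.pPrimeCore p H).map H.subtype

theorem core_le (H : Subgroup G) : core p H ≤ H := map_subtype_le _

theorem coprime_core (H : Subgroup G) : (Nat.card (core p H)).Coprime p := by
  rw [core, card_map_of_injective H.subtype_injective]
  exact CfsgLib.Solvable.coprime_card_pPrimeCore p

theorem le_normalizer_core (H : Subgroup G) : H ≤ normalizer (core p H : Set G) := by
  rw [← normal_subgroupOf_iff_le_normalizer (core_le H), core, ← comap_subtype,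
    comap_map_eq_self_of_injective H.subtype_injective]
  exact (CfsgLib.Solvable.pPrimeCore_spec p).1

theorem le_core {H N : Subgroup G} (hNH : N ≤ H) (hn : H ≤ normalizer (N : Set G))
    (hc : (Nat.card N).Coprime p) : N ≤ core p H := by
  rw [← map_subgroupOf_eq_of_le hNH]
  refine map_mono (CfsgLib.Solvable.le_pPrimeCore p ((normal_subgroupOf_iff_le_normalizer hNH).2 hn) ?_)
  rwa [Nat.card_congr (subgroupOfEquivOfLe hNH).toEquiv]

/-- Conjugation maps cores into cores. -/
theorem core_conj_le (H : Subgroup G) (g : G) :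
    (core p H).map (MulAut.conj g).toMonoidHom ≤ core p (H.map (MulAut.conj g).toMonoidHom) :=
  le_core (map_mono (core_le H))
    ((map_mono (le_normalizer_core H)).trans (le_normalizer_map _))
    (by rw [card_map_of_injective (MulAut.conj g).injective]; exact coprime_core H)

theorem mem_map_conj {H : Subgroup G} {g x : G} :
    x ∈ H.map (MulAut.conj g).toMonoidHom ↔ g⁻¹ * x * g ∈ H := by
  refine ⟨?_, fun h => ⟨_, h, by simp [mul_assoc]⟩⟩
  rintro ⟨w, hw, rfl⟩
  simpa [mul_assoc] using hw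

/-- A `p`-element normalizing a `q`-subgroup and fixing the elements of order `q` centralizes it. -/
theorem Hyp.centralizes_of_omega (h : Hyp p G) {q : ℕ} [hq : Fact q.Prime] (hqp : q ≠ p) {Q V : Subgroup G}
    (hQ : IsPGroup q Q) (hmax : ∀ v ∈ Q, v ^ q = 1 → v ∈ V) {x : G} {a : ℕ} (hx : x ∈ normalizer (Q : Set G))
    (ha : orderOf x = p ^ a) (hfix : ∀ v ∈ V, x * v * x⁻¹ = v) : x ∈ centralizer (Q : Set G) := by
  haveI := (h.of_isPGroup hqp hQ).1
  rw [mem_centralizer_iff]
  intro w hw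
  by_contra hne
  obtain ⟨n, hn⟩ : ∃ n, orderOf w = n := ⟨_, rfl⟩
  induction n using Nat.strong_induction_on generalizing w with
  | _ n ih =>
    subst hn
    have hqw : q ∣ orderOf w := by
      obtain ⟨j, hj⟩ := IsPGroup.iff_card.1 hQ
      obtain ⟨i, -, hi⟩ := (Nat.dvd_prime_pow hq.out).1 (hj ▸ Q.orderOf_dvd_natCard hw)
      rcases i with _ | i
      · rw [pow_zero, orderOf_eq_one_iff] at hi
        exact absurd (by rw [hi]; group) hne
      · exact hi ▸ dvd_pow_self q (Nat.succ_ne_zero i)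
    have hwq : w ^ q * x = x * w ^ q := by
      by_contra hwx
      refine ih (orderOf (w ^ q)) ?_ (w ^ q) (pow_mem hw q) hwx rfl
      rw [orderOf_pow, Nat.gcd_eq_right hqw]
      exact Nat.div_lt_self (orderOf_pos w) hq.out.one_lt
    set u := w⁻¹ * (x * w * x⁻¹)
    have hxw : x * w * x⁻¹ ∈ Q := (mem_normalizer_iff.1 hx w).1 hw
    have huq : u ^ q = 1 := by
      have hc : Commute w⁻¹ (x * w * x⁻¹) := setLike_mul_comm (inv_mem hw) hxw
      rw [hc.mul_pow, conj_pow, inv_pow, ← hwq, mul_inv_cancel_right, inv_mul_cancel]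
    have hu : u ∈ V := hmax u (mul_mem (inv_mem hw) hxw) huq
    have hiter : ∀ j : ℕ, x ^ j * w * (x ^ j)⁻¹ = w * u ^ j := by
      intro j
      induction j with
      | zero => simp
      | succ j ihj =>
        have hux : ∀ i : ℕ, x * u ^ i * x⁻¹ = u ^ i := fun i => by
          rw [← conj_pow, hfix u hu]
        calc x ^ (j + 1) * w * (x ^ (j + 1))⁻¹ = x * (x ^ j * w * (x ^ j)⁻¹) * x⁻¹ := by
              rw [pow_succ']; group
          _ = x * (w * u ^ j) * x⁻¹ := by rw [ihj]
          _ = (x * w * x⁻¹) * (x * u ^ j * x⁻¹) := by group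
          _ = (w * u) * u ^ j := by rw [hux]; simp [u]
          _ = w * u ^ (j + 1) := by rw [pow_succ', mul_assoc]
    have h1 := hiter (p ^ a)
    rw [← ha, pow_orderOf_eq_one, one_mul, inv_one, mul_one, left_eq_mul] at h1
    have hu1 : u = 1 := by
      refine orderOf_eq_one_iff.1 (Nat.eq_one_of_dvd_coprimes (((Nat.coprime_primes hq.out hp.out).2 hqp).pow_right a)
        (orderOf_dvd_of_pow_eq_one huq) (ha ▸ orderOf_dvd_of_pow_eq_one h1))
    apply hne
    have h2 : x * w * x⁻¹ = w := (inv_mul_eq_one.1 hu1).symm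
    exact (mul_inv_eq_iff_eq_mul.1 h2).symm

end General

section Min

variable {G : Type u} [Group G] [Finite G] {p : ℕ} [hp : Fact p.Prime]
variable (c : Ctx p G)
include c

theorem Ctx.not_comm : ¬ IsMulCommutative G := c.hmin.2.1

theorem Ctx.solvable {H : Subgroup G} (hH : H ≠ ⊤) : Group.IsSolvable H := c.hmin.2.2 H hH

theorem Ctx.not_solvable : ¬ Group.IsSolvable G := by
  intro hs
  haveI := c.hmin.1
  apply c.not_comm
  have h := Group.IsSolvable.commutator_lt_top_of_nontrivial G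
  rcases IsSimpleGroup.eq_bot_or_eq_top_of_normal (commutator G) inferInstance with h' | h'
  · exact ⟨⟨fun a b => commutatorElement_eq_one_iff_mul_comm.1 (mem_bot.1 (h' ▸
      (commutator_def G).symm ▸ commutator_mem_commutator (mem_top a) (mem_top b)))⟩⟩
  · exact absurd h' h.ne

theorem Ctx.ne_top_of_comm {H : Subgroup G} (hH : IsMulCommutative H) : H ≠ ⊤ := by
  rintro rfl
  exact c.not_comm ⟨⟨fun a b => setLike_mul_comm (mem_top a) (mem_top b)⟩⟩

theorem Ctx.ne_top_of_coprime {H : Subgroup G} (hH : (Nat.card H).Coprime p) : H ≠ ⊤ :=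
  c.ne_top_of_comm (c.hyp H hH).1

theorem Ctx.ne_top_of_isPGroup {q : ℕ} [Fact q.Prime] {H : Subgroup G} (hH : IsPGroup q H) : H ≠ ⊤ := by
  rintro rfl
  haveI : Group.IsNilpotent (⊤ : Subgroup G) := hH.isNilpotent
  apply c.not_solvable
  exact Group.isSolvable_of_surjective (f := (topEquiv : (⊤ : Subgroup G) ≃* G).toMonoidHom)
    (MulEquiv.surjective _)

theorem Ctx.normalizer_ne_top {K : Subgroup G} (h1 : K ≠ ⊥) (h2 : K ≠ ⊤) : normalizer (K : Set G) ≠ ⊤ := by
  intro h
  haveI := c.hmin.1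
  haveI : K.Normal := normalizer_eq_top_iff.1 h
  rcases IsSimpleGroup.eq_bot_or_eq_top_of_normal K inferInstance with h' | h'
  · exact h1 h'
  · exact h2 h'

theorem Ctx.centralizer_ne_top {x : G} (hx : x ≠ 1) : centralizer ({x} : Set G) ≠ ⊤ := by
  intro h
  haveI := c.hmin.1
  have hxc : x ∈ center G := mem_center_iff.2 fun g =>
    mem_centralizer_singleton_iff.1 (h ▸ mem_top g)
  rcases IsSimpleGroup.eq_bot_or_eq_top_of_normal (center G) inferInstance with h' | h'
  · exact hx (mem_bot.1 (h' ▸ hxc))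
  · exact c.not_comm ⟨⟨fun a b => (mem_center_iff.1 (h' ▸ mem_top b) a)⟩⟩

theorem Ctx.normalCore_eq_bot {M : Subgroup G} (hM : M ≠ ⊤) : M.normalCore = ⊥ := by
  haveI := c.hmin.1
  rcases IsSimpleGroup.eq_bot_or_eq_top_of_normal M.normalCore inferInstance with h | h
  · exact h
  · exact absurd (top_le_iff.1 (h ▸ normalCore_le M)) hM

theorem Ctx.not_hasNormalPComplement {q : ℕ} [hq : Fact q.Prime] (hd : q ∣ Nat.card G) :
    ¬ Cfsg.HasNormalPComplement q G := by
  rintro ⟨P, K, hK, hcomp⟩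
  haveI := c.hmin.1
  rcases IsSimpleGroup.eq_bot_or_eq_top_of_normal K hK with rfl | rfl
  · exact c.ne_top_of_isPGroup P.2 (Subgroup.isComplement'_bot_left.1 hcomp)
  · have h1 := hcomp.card_mul_card
    rw [card_top] at h1
    obtain ⟨k, hk⟩ := IsPGroup.iff_card.1 P.2
    have h2 : Nat.card (P : Subgroup G) = 1 := by
      rcases (Nat.mul_eq_left (Nat.card_pos (α := G)).ne').1 h1 with h
      exact h
    exact P.ne_bot_of_dvd_card hd (card_eq_one.1 h2)

/-- For `q ≠ p` the subgroup `Ω₁` of a Sylow `q`-subgroup has order at least `q ^ 3`. -/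
theorem Ctx.card_omega {q : ℕ} [hq : Fact q.Prime] (hqp : q ≠ p) (hd : q ∣ Nat.card G) (Q : Sylow q G)
    {V : Subgroup G} (hVQ : V ≤ Q) (hV : Cfsg.IsElementaryAbelian q V)
    (hmax : ∀ v ∈ (Q : Subgroup G), v ^ q = 1 → v ∈ V) : q ^ 3 ≤ Nat.card V := by
  classical
  have hqlt : q < p := by
    have h1 := c.hyp.prime_dvd_pred hqp hd
    have h2 := hp.out.two_le
    have h3 := Nat.le_of_dvd (by omega) h1
    omega
  have hQc := coprime_of_isPGroup (p := p) hqp Q.2
  haveI := (c.hyp _ hQc).1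
  obtain ⟨g, hg, hgc⟩ := SetLike.not_le_iff_exists.1 fun h =>
    c.not_hasNormalPComplement hd (CfsgLib.TransferBasic.hasNormalPComplement_of_le_centralizer Q h)
  obtain ⟨x, hx, hxc, a, ha⟩ := c.hyp.exists_pElement hQc hg hgc
  -- `x` moves some element of `V`
  obtain ⟨v, hv, hxv⟩ : ∃ v ∈ V, x * v * x⁻¹ ≠ v := by
    by_contra hfix
    push Not at hfix
    exact hxc (c.hyp.centralizes_of_omega hqp Q.2 hmax hx ha hfix)
  by_contra hlt
  push Not at hlt
  -- `|V| ≤ q²`
  haveI := hV.1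
  have hVcard : Nat.card V ≤ q ^ 2 := by
    have hVp : IsPGroup q V := Q.2.to_le hVQ
    obtain ⟨k, hk⟩ := IsPGroup.iff_card.1 hVp
    rw [hk] at hlt ⊢
    exact Nat.pow_le_pow_right hq.out.pos (by
      have := (Nat.pow_lt_pow_iff_right hq.out.one_lt).1 hlt
      omega)
  have hxV : ∀ (j : ℕ), ∀ w ∈ V, x ^ j * w * (x ^ j)⁻¹ ∈ V := fun j w hw =>
    (mem_normalizer_iff.1 (omega_normalizer hVQ hV hmax (pow_mem hx j)) w).1 hw
  have hxpa : x ^ p ^ a = 1 := ha ▸ pow_orderOf_eq_one x
  have hv1 : v ≠ 1 := fun e => hxv (by simp [e])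
  have hvo : orderOf v = q := orderOf_eq_prime (hV.2 v hv) hv1
  -- a conjugate of `v` that is a power of `v` is `v`
  have hkey : ∀ (j i : ℕ), x ^ j * v * (x ^ j)⁻¹ = v ^ i → v ^ i = v := by
    intro j i hji
    have hit : ∀ n : ℕ, x ^ (j * n) * v * (x ^ (j * n))⁻¹ = v ^ (i ^ n) := by
      intro n
      induction n with
      | zero => simp
      | succ n ihn =>
        calc x ^ (j * (n + 1)) * v * (x ^ (j * (n + 1)))⁻¹
            = x ^ j * (x ^ (j * n) * v * (x ^ (j * n))⁻¹) * (x ^ j)⁻¹ := by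
              rw [mul_add, mul_one, add_comm, pow_add]; group
          _ = (x ^ j * v * (x ^ j)⁻¹) ^ (i ^ n) := by rw [ihn, conj_pow]
          _ = v ^ (i ^ (n + 1)) := by rw [hji, ← pow_mul, pow_succ']
    have h1 := hit (p ^ a)
    rw [mul_comm j, pow_mul, hxpa, one_pow, one_mul, inv_one, mul_one] at h1
    have h2 : (i : ZMod q) ^ (p ^ a) = 1 := by
      have h3 : v ^ 1 = v ^ (i ^ (p ^ a)) := by rw [pow_one]; exact h1
      rw [pow_eq_pow_iff_modEq, hvo, ← ZMod.natCast_eq_natCast_iff] at h3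
      push_cast at h3
      exact h3.symm
    have hi0 : (i : ZMod q) ≠ 0 := fun e => by
      rw [e, zero_pow (pow_pos hp.out.pos a).ne'] at h2
      exact zero_ne_one h2
    have h3 : (i : ZMod q) = 1 := by
      refine orderOf_eq_one_iff.1 (Nat.eq_one_of_dvd_coprimes ?_ (orderOf_dvd_of_pow_eq_one h2)
        (orderOf_dvd_of_pow_eq_one (ZMod.pow_card_sub_one_eq_one hi0)))
      refine (hp.out.coprime_iff_not_dvd.2 fun hd' => ?_).pow_left a
      have := hq.out.two_le
      have := Nat.le_of_dvd (by omega) hd'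
      omega
    conv_rhs => rw [← pow_one v]
    rw [pow_eq_pow_iff_modEq, hvo, ← ZMod.natCast_eq_natCast_iff, h3, Nat.cast_one]
  let O : Finset G := (Finset.range (p ^ a)).image fun j => x ^ j * v * (x ^ j)⁻¹
  have hOp : p ≤ O.card := by
    have hinj : Set.InjOn (fun j => x ^ j * v * (x ^ j)⁻¹) (Finset.range p : Set ℕ) := by
      suffices key : ∀ i j : ℕ, i < j → j < p →
          x ^ i * v * (x ^ i)⁻¹ ≠ x ^ j * v * (x ^ j)⁻¹ by
        intro i hi j hj hij
        simp only [Finset.coe_range, Set.mem_Iio] at hi hj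
        rcases lt_trichotomy i j with hl | hl | hl
        · exact absurd hij (key i j hl hj)
        · exact hl
        · exact absurd hij.symm (key j i hl hi)
      intro i j hlt' hj hij
      have hfix : x ^ (j - i) * v * (x ^ (j - i))⁻¹ = v := by
        have e : x ^ j = x ^ i * x ^ (j - i) := by rw [← pow_add]; congr 1; omega
        simp only [e] at hij
        calc x ^ (j - i) * v * (x ^ (j - i))⁻¹
            = (x ^ i)⁻¹ * (x ^ i * x ^ (j - i) * v * (x ^ i * x ^ (j - i))⁻¹) * x ^ i := by group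
          _ = (x ^ i)⁻¹ * (x ^ i * v * (x ^ i)⁻¹) * x ^ i := by rw [hij]
          _ = v := by group
      apply hxv
      have hmem : x ∈ centralizer ({v} : Set G) := by
        refine mem_of_pow_mem (a := j - i) (b := p ^ a) ((hp.out.coprime_iff_not_dvd.2 fun hd' => ?_).symm.pow_right a)
          (mem_centralizer_singleton_iff.2 (mul_inv_eq_iff_eq_mul.1 hfix)) (by rw [hxpa]; exact one_mem _)
        have := Nat.le_of_dvd (by omega) hd'
        omega
      rw [mem_centralizer_singleton_iff.1 hmem, mul_inv_cancel_right]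
    have hsub : (Finset.range p).image (fun j => x ^ j * v * (x ^ j)⁻¹) ⊆ O := by
      refine Finset.image_subset_image (Finset.range_subset_range.2 ?_)
      rcases a with _ | a
      · rw [pow_zero, pow_one] at hxpa
        exact absurd (by simp [hxpa]) hxv
      · exact Nat.le_self_pow (Nat.succ_ne_zero a) p
    calc p = ((Finset.range p).image fun j => x ^ j * v * (x ^ j)⁻¹).card := by
          rw [Finset.card_image_of_injOn hinj, Finset.card_range]
      _ ≤ O.card := Finset.card_le_card hsub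
  haveI : Fintype G := Fintype.ofFinite G
  have hcount : (O ×ˢ Finset.Icc 1 (q - 1)).card ≤ ((Finset.univ.filter fun w => w ∈ V).erase 1).card := by
    refine Finset.card_le_card_of_injOn (fun wi => wi.1 ^ wi.2) ?_ ?_
    · rintro ⟨w, i⟩ hwi
      simp only [Finset.mem_coe, Finset.mem_product, Finset.mem_image, Finset.mem_range, Finset.mem_Icc, O] at hwi
      obtain ⟨⟨j, -, rfl⟩, hi1, hi2⟩ := hwi
      simp only [Finset.mem_coe, Finset.mem_erase, Finset.mem_filter, Finset.mem_univ, true_and]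
      refine ⟨?_, pow_mem (hxV j v hv) i⟩
      rw [conj_pow]
      intro e
      rw [conj_eq_one_iff] at e
      have := Nat.le_of_dvd (by omega) (hvo ▸ orderOf_dvd_of_pow_eq_one e)
      omega
    · rintro ⟨w, i⟩ hwi ⟨w', i'⟩ hwi' heq
      simp only [Finset.mem_coe, Finset.mem_product, Finset.mem_image, Finset.mem_range, Finset.mem_Icc, O] at hwi hwi'
      obtain ⟨⟨j, hj, rfl⟩, hi1, hi2⟩ := hwi
      obtain ⟨⟨j', hj', rfl⟩, hi1', hi2'⟩ := hwi'
      simp only [conj_pow] at heq
      set d := (p ^ a - j') + j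
      have hd' : x ^ d = (x ^ j')⁻¹ * x ^ j := by
        rw [eq_inv_mul_iff_mul_eq, ← pow_add, show j' + d = p ^ a + j by omega, pow_add, hxpa, one_mul]
      have hrel : x ^ d * v ^ i * (x ^ d)⁻¹ = v ^ i' := by
        rw [hd']
        calc (x ^ j')⁻¹ * x ^ j * v ^ i * ((x ^ j')⁻¹ * x ^ j)⁻¹
            = (x ^ j')⁻¹ * (x ^ j * v ^ i * (x ^ j)⁻¹) * x ^ j' := by group
          _ = (x ^ j')⁻¹ * (x ^ j' * v ^ i' * (x ^ j')⁻¹) * x ^ j' := by rw [heq]
          _ = v ^ i' := by group
      obtain ⟨e, he⟩ : ∃ e, (v ^ i) ^ e = v := by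
        refine exists_pow_eq_self_of_coprime (x := v) ?_
        rw [hvo]
        exact (hq.out.coprime_iff_not_dvd.2 fun h => by
          have := Nat.le_of_dvd (by omega) h
          omega).symm
      have h1 : x ^ d * v * (x ^ d)⁻¹ = v ^ (i' * e) := by
        rw [pow_mul, ← hrel, conj_pow, he]
      have h2 := hkey d (i' * e) h1
      have hie : v ^ i' = v ^ i := by
        calc v ^ i' = (v ^ (i * e)) ^ i' := by rw [pow_mul, he]
          _ = (v ^ (i' * e)) ^ i := by rw [← pow_mul, ← pow_mul]; congr 1; ring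
          _ = v ^ i := by rw [h2]
      have hii : i = i' := by
        rw [pow_eq_pow_iff_modEq, hvo] at hie
        exact (Nat.ModEq.eq_of_lt_of_lt hie (by omega) (by omega)).symm
      subst hii
      have h4 : x ^ d * v * (x ^ d)⁻¹ = v := by rw [h1, h2]
      rw [Prod.mk.injEq]
      refine ⟨?_, rfl⟩
      rw [hd'] at h4
      calc x ^ j * v * (x ^ j)⁻¹
          = x ^ j' * ((x ^ j')⁻¹ * x ^ j * v * ((x ^ j')⁻¹ * x ^ j)⁻¹) * (x ^ j')⁻¹ := by group
        _ = x ^ j' * v * (x ^ j')⁻¹ := by rw [h4]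
  have hVfin : ((Finset.univ.filter fun w => w ∈ V).erase 1).card = Nat.card V - 1 := by
    rw [Finset.card_erase_of_mem (by simp [one_mem]), Nat.card_eq_fintype_card, Fintype.card_subtype]
  rw [Finset.card_product, Nat.card_Icc, hVfin, show q - 1 + 1 - 1 = q - 1 by omega] at hcount
  have h5 : p * (q - 1) ≤ q ^ 2 - 1 :=
    (Nat.mul_le_mul_right _ hOp).trans (hcount.trans (Nat.sub_le_sub_right hVcard 1))
  have hq2 := hq.out.two_le
  obtain ⟨s, rfl⟩ : ∃ s, q = s + 1 := ⟨q - 1, by omega⟩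
  simp only [add_tsub_cancel_right] at h5
  have h6 : (s + 1) ^ 2 - 1 = s * (s + 2) := by
    rw [show (s + 1) ^ 2 = s * (s + 2) + 1 by ring]; omega
  rw [h6, mul_comm p s] at h5
  have h7 : p ≤ s + 2 := Nat.le_of_mul_le_mul_left h5 (by omega)
  have h8 : p = s + 2 := by omega
  rcases hq.out.eq_two_or_odd with h9 | h9
  · have := c.hp5
    omega
  · rcases hp.out.eq_two_or_odd with h10 | h10
    · have := c.hp5
      omega
    · omega

end Min

end CfsgLib.PPrimeAb
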