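import Cfsg.Agent.PPrimeAbelian.EvenB

/-!
The case in which `Ω₁` of the Sylow `2`-subgroup centralizes the odd core of the strongly embedded
subgroup `M`: its centralizer is a trivial-intersection subgroup of index `p` in `M`, and counting the
involutions outside `M` gives a contradiction.
-/

set_option autoImplicit false
set_option linter.style.haveILetI false
set_option linter.unusedSectionVars false

namespace CfsgLib.PPrimeAb

open Subgroup
open scoped commutatorElement

universe u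

variable {G : Type u} [Group G] [Finite G] {p : ℕ} [hp : Fact p.Prime]

/-- A product `t * g` of an involution `t` with an element it inverts. -/
theorem invol_mul {t g : G} (ht : orderOf t = 2) (hg : t * g * t⁻¹ = g⁻¹) : t * g * (t * g) = 1 := by
  have htt := CfsgLib.Invol.mul_self_eq_one ht
  rw [CfsgLib.Invol.inv_eq_self ht] at hg
  calc t * g * (t * g) = t * g * t * g := by group
    _ = 1 := by rw [hg, inv_mul_cancel]

theorem eq_one_of_inv_eq_self_of_odd {g : G} (ho : Odd (orderOf g)) (h : g⁻¹ = g) : g = 1 := by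
  have h2 : orderOf g ∣ 2 := orderOf_dvd_of_pow_eq_one (by rw [pow_two]; nth_rw 1 [← h]; rw [inv_mul_cancel])
  rcases (Nat.dvd_prime Nat.prime_two).1 h2 with h1 | h1
  · exact orderOf_eq_one_iff.1 h1
  · rw [h1] at ho
    exact absurd ho (by decide)

variable (c : Ctx p G)
include c

/-- An element of odd order inverted by an involution is a `p`-element. -/
theorem Ctx.inverted_pElement {t g : G} (ht : orderOf t = 2) (ho : Odd (orderOf g))
    (hg : t * g * t⁻¹ = g⁻¹) : ∃ k, orderOf g = p ^ k := by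
  obtain ⟨k, m, hm, hn⟩ := Nat.exists_eq_pow_mul_and_not_dvd (orderOf_pos g).ne' p hp.out.one_lt.ne'
  set a := g ^ p ^ k
  have hao : orderOf a = m := by
    rw [orderOf_pow, hn, Nat.gcd_eq_right (dvd_mul_right _ _), Nat.mul_div_cancel_left _ (pow_pos hp.out.pos k)]
  have hta : t * a * t⁻¹ = a⁻¹ := by rw [← conj_pow, hg, inv_pow]
  have hAn : t ∈ normalizer (zpowers a : Set G) := by
    refine mem_normalizer_iff_map_conj_eq.2 ?_
    rw [MonoidHom.map_zpowers]
    show zpowers (MulAut.conj t a) = zpowers a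
    rw [show MulAut.conj t a = a⁻¹ from hta, zpowers_inv]
  have hac : (Nat.card (zpowers a)).Coprime p := by
    rw [Nat.card_zpowers, hao]; exact (hp.out.coprime_iff_not_dvd.2 hm).symm
  have htc := c.hyp.centralizes hac hAn (by rw [ht]; exact (Nat.coprime_primes Nat.prime_two hp.out).2 c.two_ne)
  have hcomm := mem_centralizer_iff.1 htc a (mem_zpowers a)
  rw [← hcomm, mul_inv_cancel_right] at hta
  have hodd : Odd (orderOf a) := hao ▸ ho.of_dvd_nat (hn ▸ dvd_mul_left m _)
  have h1 := eq_one_of_inv_eq_self_of_odd hodd hta.symm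
  rw [h1, orderOf_one] at hao
  exact ⟨k, by rw [hn, ← hao, mul_one]⟩

variable {Q : Sylow 2 G} {V M : Subgroup G} (e : Emb Q V M) (hA : core 2 M ≤ centralizer (V : Set G))
include e hA

/-- The centralizer of each involution of `V` is the centralizer of `V`. -/
theorem Ctx.centralizer_eq {v : G} (hv : v ∈ V) (hv1 : v ≠ 1) :
    centralizer ({v} : Set G) = centralizer (V : Set G) := by
  refine le_antisymm (fun g hg => ?_) fun g hg => mem_centralizer_singleton_iff.2
    (mem_centralizer_iff.1 hg v hv).symm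
  obtain ⟨n, hn, w, hw, -, rfl⟩ := c.decomp_centralizer e hv hv1 (mem_centralizer_singleton_iff.1 hg)
  exact mul_mem (centralizer_le (SetLike.coe_subset_coe.2 e.hVQ) hn) (hA hw)

theorem Ctx.conj_mem_V {m v : G} (hm : m ∈ M) (hv : v ∈ V) : m * v * m⁻¹ ∈ V := by
  obtain ⟨n, hn, w, hw, rfl⟩ := c.decomp e hm
  have hwv : w * v * w⁻¹ = v := by rw [← mem_centralizer_iff.1 (hA hw) v hv, mul_inv_cancel_right]
  have h := (mem_normalizer_iff.1 (omega_normalizer e.hVQ e.hV e.hmax hn) v).1 hv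
  rwa [show n * w * v * (n * w)⁻¹ = n * (w * v * w⁻¹) * n⁻¹ by group, hwv]

theorem Ctx.invol_mem_V {i : G} (hi : i ∈ M) (hio : orderOf i = 2) : i ∈ V := by
  obtain ⟨m, hm, hmi⟩ := c.exists_conj_mem e hi hio
  have := c.conj_mem_V e hA (inv_mem hm) hmi
  simpa [mul_assoc] using this

/-- The centralizer of a nontrivial element centralizing `V` lies in `M`. -/
theorem Ctx.centralizer_le_M {z : G} (hz : z ∈ centralizer (V : Set G)) (hz1 : z ≠ 1) :
    centralizer ({z} : Set G) ≤ M :=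
  c.le_of_four e (c.centralizer_ne_top hz1)
    (fun v hv => mem_centralizer_singleton_iff.2 (mem_centralizer_iff.1 hz v hv)) (c.V_le e) e.hV
    (le_trans (Nat.pow_le_pow_right (by norm_num) (by norm_num)) e.h8)

/-- `C(V)` is a trivial-intersection subgroup with normalizer `M`. -/
theorem Ctx.ti {z h : G} (hz : z ∈ centralizer (V : Set G)) (hz1 : z ≠ 1)
    (hh : h * z * h⁻¹ ∈ centralizer (V : Set G)) : h ∈ M := by
  obtain ⟨v, hv, hv1⟩ := c.exists_mem_V e
  have hC := c.centralizer_le_M e hA hh (fun e' => hz1 (conj_eq_one_iff.1 e'))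
  have hs : h * v * h⁻¹ ∈ M := hC (mem_centralizer_singleton_iff.2 (by
    calc h * v * h⁻¹ * (h * z * h⁻¹) = h * (v * z) * h⁻¹ := by group
      _ = h * (z * v) * h⁻¹ := by rw [mem_centralizer_iff.1 hz v hv]
      _ = _ := by group))
  have ho : orderOf (h * v * h⁻¹) = 2 := by
    rw [CfsgLib.Invol.orderOf_conj_eq, orderOf_two_of_mem e.hV hv hv1]
  refine CfsgLib.StrongEmbed.mem_of_conj_mem e.se hs ho ?_
  rw [show h⁻¹ * (h * v * h⁻¹) * h = v by group]
  exact c.V_le e hv

/-- No nontrivial element of odd order inverted by an involution is conjugate into `C(V)`. -/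
theorem Ctx.inverted_notMem {t g : G} (ht : orderOf t = 2) (ho : Odd (orderOf g)) (hg1 : g ≠ 1)
    (hg : t * g * t⁻¹ = g⁻¹) (h : G) : h * g * h⁻¹ ∉ centralizer (V : Set G) := by
  intro hmem
  set g' := h * g * h⁻¹
  set t' := h * t * h⁻¹
  have ht' : orderOf t' = 2 := by rw [CfsgLib.Invol.orderOf_conj_eq, ht]
  have hinv : t' * g' * t'⁻¹ = g'⁻¹ := by
    calc t' * g' * t'⁻¹ = h * (t * g * t⁻¹) * h⁻¹ := by simp [t', g', mul_assoc]
      _ = g'⁻¹ := by rw [hg]; simp [g', mul_assoc]
  have hg1' : g' ≠ 1 := fun e' => hg1 (conj_eq_one_iff.1 e')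
  have ho' : Odd (orderOf g') := by rwa [CfsgLib.Invol.orderOf_conj_eq]
  have htM : t' ∈ M := c.ti e hA hmem hg1' (by rw [hinv]; exact inv_mem hmem)
  have hcomm := mem_centralizer_iff.1 hmem t' (c.invol_mem_V e hA htM ht')
  rw [hcomm, mul_inv_cancel_right] at hinv
  exact hg1' (eq_one_of_inv_eq_self_of_odd ho' hinv.symm)

/-- The centralizer of an inverted element is an abelian `p`-group, inverted by the same involution. -/
theorem Ctx.centralizer_inverted {t g : G} (ht : orderOf t = 2) (ho : Odd (orderOf g)) (hg1 : g ≠ 1)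
    (hg : t * g * t⁻¹ = g⁻¹) :
    (∀ y ∈ centralizer ({g} : Set G), t * y * t⁻¹ = y⁻¹ ∧ Odd (orderOf y)) ∧
      IsMulCommutative (centralizer ({g} : Set G)) ∧ IsPGroup p (centralizer ({g} : Set G)) := by
  classical
  obtain ⟨v, hv, hv1⟩ := c.exists_mem_V e
  have hv2 := orderOf_two_of_mem e.hV hv hv1
  set C := centralizer ({g} : Set G)
  have hodd : ∀ y ∈ C, Odd (orderOf y) := by
    intro y hy
    by_contra hev
    obtain ⟨m, hm⟩ := even_iff_two_dvd.1 (Nat.not_odd_iff_even.1 hev)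
    have hw : orderOf (y ^ m) = 2 := by
      have hm0 : 0 < m := by have := orderOf_pos y; omega
      rw [orderOf_pow, hm, Nat.gcd_eq_right (dvd_mul_left m 2), Nat.mul_div_cancel _ hm0]
    obtain ⟨k, hk⟩ := isConj_iff.1 (CfsgLib.StrongEmbed.isConj_of_invols e.se hw hv2)
    refine c.inverted_notMem e hA ht ho hg1 hg k ?_
    rw [← c.centralizer_eq e hA hv hv1, mem_centralizer_singleton_iff, ← hk]
    have hc : g * y ^ m = y ^ m * g :=
      ((show Commute y g from mem_centralizer_singleton_iff.1 hy).pow_left m).eq.symm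
    calc k * g * k⁻¹ * (k * y ^ m * k⁻¹) = k * (g * y ^ m) * k⁻¹ := by group
      _ = k * (y ^ m * g) * k⁻¹ := by rw [hc]
      _ = _ := by group
  have hfpf : ∀ y ∈ C, t * y * t⁻¹ = y → y = 1 := by
    intro y hy hyt
    by_contra hy1
    obtain ⟨k, hk⟩ := isConj_iff.1 (CfsgLib.StrongEmbed.isConj_of_invols e.se ht hv2)
    set g' := k * g * k⁻¹
    have hinv : v * g' * v⁻¹ = g'⁻¹ := by
      calc v * g' * v⁻¹ = k * (t * g * t⁻¹) * k⁻¹ := by rw [← hk]; simp [g', mul_assoc]
        _ = g'⁻¹ := by rw [hg]; simp [g', mul_assoc]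
    have hg1' : g' ≠ 1 := fun e' => hg1 (conj_eq_one_iff.1 e')
    have ho' : Odd (orderOf g') := by rwa [CfsgLib.Invol.orderOf_conj_eq]
    set u' := v * g'
    have hu1 : u' * u' = 1 := invol_mul hv2 hinv
    have hu'M : u' ∉ M := by
      intro hu'
      have hg'M : g' ∈ M := by
        have := mul_mem (inv_mem (c.V_le e hv)) hu'
        simpa [u'] using this
      have hsq : g'⁻¹ * g'⁻¹ ∈ V := by
        have h1 : v * (g' * v⁻¹ * g'⁻¹) ∈ V := mul_mem hv (c.conj_mem_V e hA hg'M (inv_mem hv))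
        rwa [← mul_assoc, ← mul_assoc, hinv] at h1
      have h2 : orderOf (g'⁻¹ * g'⁻¹) = 1 := by
        refine Nat.eq_one_of_dvd_coprimes (a := orderOf g'⁻¹) (b := 2) ?_ ?_ ?_
        · rw [orderOf_inv]
          exact Nat.coprime_two_right.2 ho'
        · rw [← pow_two]; exact orderOf_pow_dvd 2
        · exact orderOf_dvd_of_pow_eq_one (e.hV.2 _ hsq)
      rw [orderOf_eq_one_iff, ← mul_inv_rev, inv_eq_one] at h2
      refine hg1' (eq_one_of_inv_eq_self_of_odd ho' (inv_eq_of_mul_eq_one_right h2))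
    have hu2 : orderOf u' = 2 := CfsgLib.Invol.orderOf_eq_two hu1 fun h => hu'M (h ▸ one_mem M)
    set y' := k * y * k⁻¹
    have hy1' : y' ≠ 1 := fun e' => hy1 (conj_eq_one_iff.1 e')
    have hyv : y' * v = v * y' := by
      have hyt' : t * y = y * t := mul_inv_eq_iff_eq_mul.1 hyt
      calc y' * v = k * (y * t) * k⁻¹ := by rw [← hk]; simp [y', mul_assoc]
        _ = k * (t * y) * k⁻¹ := by rw [hyt']
        _ = v * y' := by rw [← hk]; simp [y', mul_assoc]
    have hyC : y' ∈ centralizer (V : Set G) := by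
      rw [← c.centralizer_eq e hA hv hv1]; exact mem_centralizer_singleton_iff.2 hyv
    have hyu : y' * u' = u' * y' := by
      have hyg : y' * g' = g' * y' := by
        calc y' * g' = k * (y * g) * k⁻¹ := by simp [y', g', mul_assoc]
          _ = k * (g * y) * k⁻¹ := by rw [mem_centralizer_singleton_iff.1 hy]
          _ = g' * y' := by simp [y', g', mul_assoc]
      exact ((show Commute y' v from hyv).mul_right hyg).eq
    obtain ⟨l, hl⟩ := isConj_iff.1 (CfsgLib.StrongEmbed.isConj_of_invols e.se hu2 hv2)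
    have hly : l * y' * l⁻¹ ∈ centralizer (V : Set G) := by
      rw [← c.centralizer_eq e hA hv hv1, mem_centralizer_singleton_iff, ← hl]
      calc l * y' * l⁻¹ * (l * u' * l⁻¹) = l * (y' * u') * l⁻¹ := by group
        _ = l * (u' * y') * l⁻¹ := by rw [hyu]
        _ = _ := by group
    have hlM := c.ti e hA hyC hy1' hly
    refine hu'M ?_
    have := mul_mem (mul_mem (inv_mem hlM) (c.V_le e hv)) hlM
    rwa [← hl, show l⁻¹ * (l * u' * l⁻¹) * l = u' by group] at this
  have htC : ∀ y ∈ C, t * y * t⁻¹ ∈ C := by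
    intro y hy
    rw [mem_centralizer_singleton_iff]
    have hy' : y * g⁻¹ = g⁻¹ * y := (show Commute y g from mem_centralizer_singleton_iff.1 hy).inv_right.eq
    have hg' : g = t * g⁻¹ * t⁻¹ := by
      calc g = (t * t) * g * (t * t)⁻¹ := by rw [CfsgLib.Invol.mul_self_eq_one ht]; group
        _ = t * (t * g * t⁻¹) * t⁻¹ := by group
        _ = t * g⁻¹ * t⁻¹ := by rw [hg]
    calc t * y * t⁻¹ * g = t * y * t⁻¹ * (t * g⁻¹ * t⁻¹) := by rw [← hg']
      _ = t * (y * g⁻¹) * t⁻¹ := by group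
      _ = t * (g⁻¹ * y) * t⁻¹ := by rw [hy']
      _ = t * g⁻¹ * t⁻¹ * (t * y * t⁻¹) := by group
      _ = g * (t * y * t⁻¹) := by rw [← hg']
  let φ : C → C := fun y => ⟨(y : G)⁻¹ * (t * y * t⁻¹), mul_mem (inv_mem y.2) (htC _ y.2)⟩
  have hφ : Function.Injective φ := by
    intro a b hab
    have h : (a : G)⁻¹ * (t * a * t⁻¹) = (b : G)⁻¹ * (t * b * t⁻¹) := congrArg Subtype.val hab
    refine Subtype.ext (eq_of_mul_inv_eq_one ?_)
    refine hfpf _ (mul_mem a.2 (inv_mem b.2)) ?_
    calc t * ((a : G) * (b : G)⁻¹) * t⁻¹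
        = (a : G) * ((a : G)⁻¹ * (t * a * t⁻¹)) * (t * b * t⁻¹)⁻¹ := by group
      _ = (a : G) * ((b : G)⁻¹ * (t * b * t⁻¹)) * (t * b * t⁻¹)⁻¹ := by rw [h]
      _ = (a : G) * (b : G)⁻¹ := by group
  have hinvC : ∀ y ∈ C, t * y * t⁻¹ = y⁻¹ := by
    intro y hy
    obtain ⟨⟨z, hz⟩, hzy⟩ := (Finite.injective_iff_surjective.1 hφ) ⟨y, hy⟩
    have h : z⁻¹ * (t * z * t⁻¹) = y := congrArg Subtype.val hzy
    have htt := CfsgLib.Invol.mul_self_eq_one ht
    have hti := CfsgLib.Invol.inv_eq_self ht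
    rw [← h]
    calc t * (z⁻¹ * (t * z * t⁻¹)) * t⁻¹ = (t * z⁻¹ * t⁻¹) * (t * t) * z * (t * t)⁻¹ := by group
      _ = t * z⁻¹ * t⁻¹ * z := by rw [htt]; group
      _ = _ := by group
  refine ⟨fun y hy => ⟨hinvC y hy, hodd y hy⟩, ⟨⟨fun a b => Subtype.ext ?_⟩⟩, fun y => ?_⟩
  · show (a : G) * b = b * a
    have h := hinvC _ (mul_mem a.2 b.2)
    have h' : t * ((a : G) * b) * t⁻¹ = (a : G)⁻¹ * (b : G)⁻¹ := by
      rw [← hinvC _ a.2, ← hinvC _ b.2]; group
    exact inv_injective (by rw [← h, h', mul_inv_rev (b : G)])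
  · obtain ⟨k, hk⟩ := c.inverted_pElement ht (hodd y y.2) (hinvC y y.2)
    exact ⟨k, Subtype.ext (by simpa [← hk] using pow_orderOf_eq_one (y : G))⟩

theorem Ctx.false_of_centralize : False := by
  classical
  haveI : Fact (Nat.Prime 2) := ⟨Nat.prime_two⟩
  have hp5 := c.hp5
  obtain ⟨hVcard, htr, -⟩ := c.automizer e
  obtain ⟨v₀, hv₀, hv₀1⟩ := c.exists_mem_V e
  have hv₀2 := orderOf_two_of_mem e.hV hv₀ hv₀1
  set M1 := centralizer (V : Set G)
  have hM1M : M1 ≤ M := c.centralizer_V_le e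
  -- the involutions of `M`
  have hI : Nat.card {t : G // orderOf t = 2 ∧ t ∈ M} = p := by
    have hset : {t : G | orderOf t = 2 ∧ t ∈ M} = (V : Set G) \ {1} := by
      ext t
      exact ⟨fun ht => ⟨c.invol_mem_V e hA ht.2 ht.1, CfsgLib.Invol.ne_one ht.1⟩,
        fun ht => ⟨orderOf_two_of_mem e.hV ht.1 ht.2, c.V_le e ht.1⟩⟩
    show Nat.card {t : G | orderOf t = 2 ∧ t ∈ M} = p
    rw [hset, Nat.card_coe_set_eq]
    have h1 := Set.ncard_sdiff_singleton_add_one (one_mem V) (Set.toFinite (V : Set G))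
    have h2 : (V : Set G).ncard = Nat.card V := (Nat.card_coe_set_eq _).symm
    omega
  -- the index of `C(V)` in `M`
  have hidx : (M1.subgroupOf M).index = p := by
    rw [show M1.subgroupOf M = (centralizer ({v₀} : Set G)).subgroupOf M by rw [c.centralizer_eq e hA hv₀ hv₀1],
      index_of_transitive (S := (V : Set G) \ {1})
      (fun n hn => ⟨c.conj_mem_V e hA hn hv₀, fun h => hv₀1 (conj_eq_one_iff.1 h)⟩) fun w hw => by
        obtain ⟨n, hn, hnw⟩ := htr v₀ hv₀ hv₀1 w hw.1 hw.2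
        exact ⟨n, c.normalizer_sylow_le e hn, hnw⟩]
    have h1 := Set.ncard_sdiff_singleton_add_one (one_mem V) (Set.toFinite (V : Set G))
    rw [Nat.card_coe_set_eq]
    have h2 : (V : Set G).ncard = Nat.card V := (Nat.card_coe_set_eq _).symm
    omega
  haveI hM1n : (M1.subgroupOf M).Normal := by
    refine ⟨fun z hz m => ?_⟩
    rw [mem_subgroupOf, mem_centralizer_iff] at hz ⊢
    intro v hv
    have hv' := c.conj_mem_V e hA (inv_mem m.2) hv
    rw [inv_inv] at hv'
    calc v * (m * z * (m : G)⁻¹) = (m : G) * ((m : G)⁻¹ * v * m * z) * (m : G)⁻¹ := by group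
      _ = (m : G) * ((z : G) * ((m : G)⁻¹ * v * m)) * (m : G)⁻¹ := by rw [hz _ hv']
      _ = _ := by simp only [Subgroup.coe_mul, Subgroup.coe_inv]; group
  have hp' : ∀ z ∈ M, (orderOf z).Coprime p → z ∈ M1 := by
    intro z hz hzo
    have hpow : z ^ p ∈ M1 := by
      have := pow_index_mem (M1.subgroupOf M) ⟨z, hz⟩
      rw [hidx] at this
      simpa [mem_subgroupOf] using this
    exact mem_of_pow_mem (b := orderOf z) hzo.symm hpow (by rw [pow_orderOf_eq_one]; exact one_mem _)
  -- an involution outside `M`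
  obtain ⟨u, hu, huM⟩ : ∃ u : G, orderOf u = 2 ∧ u ∉ M := by
    by_contra h
    push Not at h
    have hv : v₀ ∈ M.normalCore := fun g => h _ (by rw [CfsgLib.Invol.orderOf_conj_eq, hv₀2])
    rw [c.normalCore_eq_bot e.hM.1, mem_bot] at hv
    exact hv₀1 hv
  set o : G ⧸ M := QuotientGroup.mk 1
  -- a swap fixes the element constructed from another
  have hswap : ∀ k : G, orderOf k = 2 → k ∉ M → ∃ x ∈ M, orderOf x = p ∧ k * x * k⁻¹ = x⁻¹ := by
    intro k hk hkM
    set y := k • o
    have hy : y ≠ o := fun h => hkM (CfsgLib.StrongEmbed.smul_mk_one_iff.1 h)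
    have hcard := CfsgLib.StrongEmbed.card_swap e.se (Ne.symm hy)
    rw [hI] at hcard
    haveI : Nontrivial {i : G // orderOf i = 2 ∧ i • o = y} := Finite.one_lt_card_iff_nontrivial.1 (by omega)
    obtain ⟨⟨l, hl, hlo⟩, hlk⟩ := exists_ne (⟨k, hk, rfl⟩ : {i : G // orderOf i = 2 ∧ i • o = y})
    set d := l * k
    have hkk := CfsgLib.Invol.mul_self_eq_one hk
    have hll := CfsgLib.Invol.mul_self_eq_one hl
    have hd1 : d ≠ 1 := fun h => hlk (Subtype.ext (by
      have := mul_eq_one_iff_eq_inv.1 h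
      rwa [CfsgLib.Invol.inv_eq_self hk] at this))
    have hdM : d ∈ M := by
      refine CfsgLib.StrongEmbed.smul_mk_one_iff.1 ?_
      show (l * k) • o = o
      rw [mul_smul]
      show l • y = o
      rw [← hlo, smul_smul, hll, one_smul]
    have hinv : k * d * k⁻¹ = d⁻¹ := by
      simp only [d, mul_inv_rev, CfsgLib.Invol.inv_eq_self hk, CfsgLib.Invol.inv_eq_self hl]
      rw [mul_assoc, mul_assoc, hkk, mul_one]
    have hdodd : Odd (orderOf d) := by
      by_contra hev
      obtain ⟨m, hm⟩ := even_iff_two_dvd.1 (Nat.not_odd_iff_even.1 hev)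
      have hm0 : 0 < m := by have := orderOf_pos d; omega
      have hj : orderOf (d ^ m) = 2 := by
        rw [orderOf_pow, hm, Nat.gcd_eq_right (dvd_mul_left m 2), Nat.mul_div_cancel _ hm0]
      refine hkM (e.hC _ (pow_mem hdM m) hj (mem_centralizer_singleton_iff.2 ?_))
      rw [← mul_inv_eq_iff_eq_mul, ← conj_pow, hinv, inv_pow, CfsgLib.Invol.inv_eq_self hj]
    obtain ⟨i, hi⟩ := c.inverted_pElement hk hdodd hinv
    rcases i with _ | i
    · rw [pow_zero, orderOf_eq_one_iff] at hi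
      exact absurd hi hd1
    refine ⟨d ^ p ^ i, pow_mem hdM _, ?_, by rw [← conj_pow, hinv, inv_pow]⟩
    rw [orderOf_pow, hi, Nat.gcd_eq_right (pow_dvd_pow p (Nat.le_succ i)),
      Nat.pow_div (Nat.le_succ i) hp.out.pos, Nat.succ_sub (le_refl i), Nat.sub_self, pow_one]
  obtain ⟨x, hxM, hxo, hxu⟩ := hswap u hu huM
  have hx1 : x ≠ 1 := fun h => hp.out.ne_one (by rw [← hxo, h, orderOf_one])
  have hxodd : Odd (orderOf x) := by rw [hxo]; exact hp.out.odd_of_ne_two (by omega)
  obtain ⟨hTinv, hTcomm, hTp⟩ := c.centralizer_inverted e hA hu hxodd hx1 hxu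
  set T := centralizer ({x} : Set G)
  have hxT : x ∈ T := mem_centralizer_singleton_iff.2 rfl
  have hTC : ∀ y ∈ T, y ≠ 1 → ∀ z : G, z * y = y * z → z ∈ T := by
    intro y hy hy1 z hz
    obtain ⟨-, hcomm, -⟩ := c.centralizer_inverted e hA hu (hTinv y hy).2 hy1 (hTinv y hy).1
    haveI := hcomm
    haveI := hTcomm
    exact mem_centralizer_singleton_iff.2 (setLike_mul_comm (S := Subgroup G) (s := centralizer ({y} : Set G))
      (mem_centralizer_singleton_iff.2 hz) (mem_centralizer_singleton_iff.2 (setLike_mul_comm hxT hy)))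
  -- `p`-groups containing `x` lie in `T`
  have hPT : ∀ P : Subgroup G, IsPGroup p P → x ∈ P → P ≤ T := by
    intro P hP hxP y hy
    haveI : Nontrivial P := ⟨⟨⟨x, hxP⟩, 1, fun h => hx1 (congrArg Subtype.val h)⟩⟩
    haveI := hP.center_nontrivial
    obtain ⟨z, hz⟩ := exists_ne (1 : center P)
    have hzc : ∀ w ∈ P, w * (z : P) = ((z : P) : G) * w := fun w hw =>
      congrArg Subtype.val (mem_center_iff.1 z.2 ⟨w, hw⟩)
    refine hTC _ (mem_centralizer_singleton_iff.2 (hzc x hxP).symm) (fun h => hz (Subtype.ext (Subtype.ext h))) y ?_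
    exact hzc y hy
  -- `T ∩ C(V) = 1` and the `p`-subgroups of `M`
  have hTM1 : ∀ y ∈ T, y ∈ M1 → y = 1 := by
    intro y hy hyV
    by_contra hy1
    refine c.inverted_notMem e hA hu (hTinv y hy).2 hy1 (hTinv y hy).1 1 ?_
    simpa using hyV
  have hcardM : p * Nat.card M1 = Nat.card M := by
    rw [← (M1.subgroupOf M).card_mul_index, hidx, Nat.card_congr (subgroupOfEquivOfLe hM1M).toEquiv, mul_comm]
  have hsmall : ∀ R : Subgroup G, R ≤ M → R ≤ T → Nat.card R ≤ p := by
    intro R hRM hRT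
    let f : R →* M ⧸ M1.subgroupOf M := (QuotientGroup.mk' _).comp (inclusion hRM)
    have hf : Function.Injective f := by
      refine (injective_iff_map_eq_one f).2 fun y hy => Subtype.ext ?_
      exact hTM1 y (hRT y.2) ((QuotientGroup.eq_one_iff (N := M1.subgroupOf M) (inclusion hRM y)).1 hy)
    have := Nat.card_le_card_of_injective f hf
    rwa [← index_eq_card, hidx] at this
  obtain ⟨S, hS⟩ := (IsPGroup.of_card (n := 1) (by rw [Nat.card_zpowers, orderOf_mk, hxo, pow_one]) :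
    IsPGroup p (zpowers (⟨x, hxM⟩ : M))).exists_le_sylow
  set R := (S : Subgroup M).map M.subtype
  have hxR : x ∈ R := ⟨⟨x, hxM⟩, hS (mem_zpowers _), rfl⟩
  have hScard : Nat.card (S : Subgroup M) = p := by
    refine le_antisymm ?_ ?_
    · have hcR : Nat.card R = Nat.card (S : Subgroup M) := card_map_of_injective M.subtype_injective
      rw [← hcR]
      exact hsmall R (map_subtype_le _) (hPT R (S.2.map _) hxR)
    · refine le_trans (le_of_eq ?_) (Nat.le_of_dvd Nat.card_pos (card_dvd_of_le hS))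
      rw [Nat.card_zpowers, orderOf_mk, hxo]
  have hM1p : ¬ p ∣ Nat.card M1 := by
    rintro ⟨l, hl⟩
    have h2 : p ^ 2 ∣ Nat.card M := ⟨l, by rw [← hcardM, hl]; ring⟩
    have h3 : p ^ 2 ∣ Nat.card (S : Subgroup M) := by
      rw [S.card_eq_multiplicity]
      exact pow_dvd_pow p ((hp.out.pow_dvd_iff_le_factorization Nat.card_pos.ne').1 h2)
    rw [hScard] at h3
    have := Nat.le_of_dvd hp.out.pos h3
    nlinarith
  have hpsub : ∀ D : Subgroup G, D ≤ M → IsPGroup p D → Nat.card D ≤ p := by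
    intro D hDM hD
    obtain ⟨S', hS'⟩ := (hD.comap_subtype (K := M)).exists_le_sylow
    rw [← Nat.card_congr (subgroupOfEquivOfLe hDM).toEquiv]
    refine (Subgroup.card_le_of_le hS').trans (le_of_eq ?_)
    rw [S'.card_eq_multiplicity, ← S.card_eq_multiplicity, hScard]
  have hTconjM : ∀ h : G, (∀ y ∈ T, h⁻¹ * y * h ∈ M) → Nat.card T ≤ p := by
    intro h hh
    have := hpsub (T.map (MulAut.conj h⁻¹).toMonoidHom) (by
      rintro _ ⟨y, hy, rfl⟩
      simpa using hh y hy) (hTp.map _)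
    rwa [card_map_of_injective (MulAut.conj h⁻¹).injective] at this
  have hxfix : x • o = o := CfsgLib.StrongEmbed.smul_mk_one_iff.2 hxM
  -- inverters of `x`
  have hkM : ∀ k : G, orderOf k = 2 → k * x * k⁻¹ = x⁻¹ → k ∉ M := by
    intro k hk hkx hmem
    have hkV := c.invol_mem_V e hA hmem hk
    have h1 : k * (x * k⁻¹ * x⁻¹) ∈ V := mul_mem hkV (c.conj_mem_V e hA hxM (inv_mem hkV))
    rw [← mul_assoc, ← mul_assoc, hkx, ← pow_two] at h1
    have h2 : orderOf (x⁻¹ ^ 2) = 1 := by
      refine Nat.eq_one_of_dvd_coprimes (a := orderOf x⁻¹) (b := 2) ?_ (orderOf_pow_dvd 2) ?_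
      · rw [orderOf_inv]; exact Nat.coprime_two_right.2 hxodd
      · exact orderOf_dvd_of_pow_eq_one (e.hV.2 _ h1)
    rw [orderOf_eq_one_iff, pow_two, ← mul_inv_rev, inv_eq_one] at h2
    exact hx1 (eq_one_of_inv_eq_self_of_odd hxodd (inv_eq_of_mul_eq_one_right h2))
  let F' : Type u := {a : G ⧸ M // x • a = a ∧ a ≠ o}
  have hinvert : ∀ k : G, orderOf k = 2 →
      ((x • (k • o) = k • o ∧ k • o ≠ o) ↔ k * x * k⁻¹ = x⁻¹) := by
    intro k hk
    have hki := CfsgLib.Invol.inv_eq_self hk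
    constructor
    · rintro ⟨hfix, hne⟩
      have hkM' : k ∉ M := fun h => hne (CfsgLib.StrongEmbed.smul_mk_one_iff.2 h)
      set D := M ⊓ M.map (MulAut.conj k).toMonoidHom
      have hxD : x ∈ D := by
        refine mem_inf.2 ⟨hxM, mem_map_conj.2 ?_⟩
        refine CfsgLib.StrongEmbed.smul_mk_one_iff.1 ?_
        show (k⁻¹ * x * k) • o = o
        rw [mul_smul, mul_smul, hfix, inv_smul_smul]
      have hDp : IsPGroup p D := by
        refine IsPGroup.of_card (n := (Nat.card D).primeFactorsList.length)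
          (Nat.eq_prime_pow_of_unique_prime_dvd Nat.card_pos.ne' fun {r} hr hrd => ?_)
        by_contra hrp
        haveI := Fact.mk hr
        obtain ⟨z, hz⟩ := exists_prime_orderOf_dvd_card' r hrd
        rw [← orderOf_coe] at hz
        have hzc : (orderOf (z : G)).Coprime p := by rw [hz]; exact (Nat.coprime_primes hr hp.out).2 hrp
        have hz1 : (z : G) ≠ 1 := fun h => hr.ne_one (by rw [← hz, h, orderOf_one])
        have h1 := hp' _ z.2.1 hzc
        have h2 : k * z * k⁻¹ ∈ M1 := hp' _ (by rw [hki]; exact (by simpa [hki] using mem_map_conj.1 z.2.2))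
          (by rwa [CfsgLib.Invol.orderOf_conj_eq])
        exact hkM' (c.ti e hA h1 hz1 h2)
      obtain ⟨x', hx'M, hx'o, hx'k⟩ := hswap k hk hkM'
      have hx'D : x' ∈ D := by
        refine mem_inf.2 ⟨hx'M, mem_map_conj.2 ?_⟩
        have : k⁻¹ * x' * k = k * x' * k⁻¹ := by rw [hki]
        rw [this, hx'k]
        exact inv_mem hx'M
      have hDcard := hpsub D inf_le_left hDp
      have heq : zpowers x' = D := eq_of_le_of_card_ge (zpowers_le.2 hx'D)
        (by rw [Nat.card_zpowers, hx'o]; exact hDcard)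
      obtain ⟨i, hi⟩ := mem_zpowers_iff.1 (heq.symm ▸ hxD : x ∈ zpowers x')
      rw [← hi, ← conj_zpow, hx'k, inv_zpow]
    · intro hkx
      refine ⟨?_, fun h => hkM k hk hkx (CfsgLib.StrongEmbed.smul_mk_one_iff.1 h)⟩
      have hxk : x * k = k * x⁻¹ := by
        rw [← hkx]
        calc x * k = k⁻¹ * (k * x) * k := by group
          _ = k * (k * x * k⁻¹) := by rw [hki]; group
      rw [smul_smul, hxk, mul_smul]
      congr 1
      rw [inv_smul_eq_iff, hxfix]
  -- `|T| = p (|F| - 1)`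
  let Inv : Type u := {k : G // orderOf k = 2 ∧ k * x * k⁻¹ = x⁻¹}
  have hInvT : Nat.card Inv = Nat.card T := by
    refine Nat.card_congr (Equiv.ofBijective (fun k : Inv => (⟨u * k.1, mem_centralizer_singleton_iff.2 ?_⟩ : T))
      ⟨fun a b h => Subtype.ext (mul_left_cancel (congrArg Subtype.val h)), fun y => ?_⟩)
    · have hkx : k.1 * x = x⁻¹ * k.1 := mul_inv_eq_iff_eq_mul.1 k.2.2
      have hux : u * x⁻¹ = x * u := by
        have := mul_inv_eq_iff_eq_mul.1 hxu
        calc u * x⁻¹ = x * (x⁻¹ * u) * x⁻¹ := by group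
          _ = x * (u * x) * x⁻¹ := by rw [this]
          _ = x * u := by group
      rw [mul_assoc, hkx, ← mul_assoc, hux, mul_assoc]
    · obtain ⟨hyinv, hyodd⟩ := hTinv y y.2
      have huy : u * (u * y) = (y : G) := by rw [← mul_assoc, CfsgLib.Invol.mul_self_eq_one hu, one_mul]
      have hne : u * (y : G) ≠ 1 := by
        intro h
        have h' : (y : G) = u := by rw [← huy, h, mul_one]
        rw [h', hu] at hyodd
        exact absurd hyodd (by decide)
      refine ⟨⟨u * y, CfsgLib.Invol.orderOf_eq_two (invol_mul hu hyinv) hne, ?_⟩, Subtype.ext huy⟩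
      rw [mul_inv_eq_iff_eq_mul, mul_assoc, mem_centralizer_singleton_iff.1 y.2, ← mul_assoc,
        mul_inv_eq_iff_eq_mul.1 hxu, mul_assoc]
  have hInvF : Nat.card Inv = Nat.card F' * p := by
    let e1 : Inv ≃ Σ a : F', {i : G // orderOf i = 2 ∧ i • o = (a.1 : G ⧸ M)} :=
      { toFun := fun k => ⟨⟨k.1 • o, ((hinvert k.1 k.2.1).2 k.2.2)⟩, k.1, k.2.1, rfl⟩
        invFun := fun a => ⟨a.2.1, a.2.2.1, (hinvert a.2.1 a.2.2.1).1 (by rw [a.2.2.2]; exact a.1.2)⟩
        left_inv := fun k => rfl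
        right_inv := by
          rintro ⟨⟨a, ha⟩, i, hi, hia⟩
          change i • o = a at hia
          subst hia
          rfl }
    haveI : Fintype F' := Fintype.ofFinite _
    rw [Nat.card_congr e1, Nat.card_sigma, Finset.sum_congr rfl fun a _ =>
      (CfsgLib.StrongEmbed.card_swap e.se (Ne.symm a.2.2)).trans hI, Finset.sum_const, Finset.card_univ,
      Nat.card_eq_fintype_card, smul_eq_mul]
  have hTcard : Nat.card T = p := by
    refine le_antisymm ?_ (by
      have := card_dvd_of_le (zpowers_le.2 hxT)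
      rw [Nat.card_zpowers, hxo] at this
      exact Nat.le_of_dvd Nat.card_pos this)
    -- the orbit of `o` misses exactly one fixed point
    set O : Set (G ⧸ M) := Set.range fun y : T => (y : G) • o
    set F : Set (G ⧸ M) := {a | x • a = a}
    have hTfix : ∀ a ∈ F, ∀ y ∈ T, y • a ∈ F := fun a ha y hy => by
      show x • (y • a) = y • a
      rw [smul_smul, ← mem_centralizer_singleton_iff.1 hy, mul_smul, ha]
    have hOF : O ⊆ F := by
      rintro _ ⟨y, rfl⟩
      exact hTfix o hxfix y y.2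
    have hOcard : Nat.card O * p = Nat.card T := by
      set St := M.subgroupOf T
      let f : T ⧸ St → O := fun a => ⟨(a.out : G) • o, a.out, rfl⟩
      have hf : Function.Bijective f := by
        refine ⟨fun a b h => ?_, ?_⟩
        · have h' : (a.out : G) • o = (b.out : G) • o := congrArg Subtype.val h
          rw [CfsgLib.StrongEmbed.smul_mk_one_eq, CfsgLib.StrongEmbed.smul_mk_one_eq, QuotientGroup.eq] at h'
          rw [← QuotientGroup.out_eq' a, ← QuotientGroup.out_eq' b, QuotientGroup.eq, mem_subgroupOf]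
          simpa using h'
        · rintro ⟨_, y, rfl⟩
          obtain ⟨s, hs⟩ := QuotientGroup.mk_out_eq_mul St y
          refine ⟨QuotientGroup.mk y, Subtype.ext ?_⟩
          show ((QuotientGroup.mk y : T ⧸ St).out : G) • o = (y : G) • o
          rw [hs, Subgroup.coe_mul, mul_smul, CfsgLib.StrongEmbed.smul_mk_one_iff.2 (mem_subgroupOf.1 s.2)]
      have hSt : Nat.card St = p := by
        refine le_antisymm ?_ ?_
        · have hcSt : Nat.card (St.map T.subtype) = Nat.card St := card_map_of_injective T.subtype_injective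
          rw [← hcSt]
          refine hsmall _ ?_ (map_subtype_le _)
          rintro _ ⟨y, hy, rfl⟩
          exact hy
        · have hxSt : zpowers (⟨x, hxT⟩ : T) ≤ St := zpowers_le.2 hxM
          refine le_trans (le_of_eq ?_) (Nat.le_of_dvd Nat.card_pos (card_dvd_of_le hxSt))
          rw [Nat.card_zpowers, orderOf_mk, hxo]
      rw [← Nat.card_eq_of_bijective f hf, ← index_eq_card, ← St.card_mul_index, hSt, mul_comm]
    have hFcard : Nat.card F = Nat.card O + 1 := by
      have h1 : Nat.card F' = Nat.card O := by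
        refine Nat.eq_of_mul_eq_mul_right hp.out.pos ?_
        rw [← hInvF, hInvT, hOcard]
      have h2 := Set.ncard_sdiff_singleton_add_one (show o ∈ F from hxfix) (Set.toFinite F)
      rw [← Nat.card_coe_set_eq F] at h2
      have h3 : Nat.card F' = (F \ {o}).ncard := Nat.card_coe_set_eq (F \ {o})
      omega
    obtain ⟨a, haF, haO⟩ : ∃ a, a ∈ F ∧ a ∉ O := by
      by_contra hall
      push Not at hall
      have := Nat.card_mono (Set.toFinite O) (fun a ha => hall a ha : F ⊆ O)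
      omega
    have hfix : ∀ y ∈ T, y • a = a := by
      intro y hy
      by_contra hne
      have hyO : y • a ∈ O := by
        by_contra hyO
        have hsub : insert a (insert (y • a) O) ⊆ F :=
          Set.insert_subset haF (Set.insert_subset (hTfix a haF y hy) hOF)
        have := Set.ncard_le_ncard hsub (Set.toFinite _)
        rw [Set.ncard_insert_of_notMem (by simp [Ne.symm hne, haO]) (Set.toFinite _),
          Set.ncard_insert_of_notMem hyO (Set.toFinite _), ← Nat.card_coe_set_eq, ← Nat.card_coe_set_eq] at this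
        omega
      obtain ⟨z, hz⟩ := hyO
      refine haO ⟨⟨y⁻¹ * z, mul_mem (inv_mem hy) z.2⟩, ?_⟩
      show (y⁻¹ * (z : G)) • o = a
      rw [mul_smul, show (z : G) • o = y • a from hz, inv_smul_smul]
    obtain ⟨h, rfl⟩ := QuotientGroup.mk_surjective a
    exact hTconjM h fun y hy => CfsgLib.StrongEmbed.smul_mk_iff.1 (hfix y hy)
  -- the Sylow `p`-subgroups have order `p`
  have hTeq : T = zpowers x := (eq_of_le_of_card_ge (zpowers_le.2 hxT)
    (by rw [Nat.card_zpowers, hxo, hTcard])).symm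
  obtain ⟨P, hP⟩ := hTp.exists_le_sylow
  have hPeq : (P : Subgroup G) = T := le_antisymm (hPT P P.2 (hP hxT)) hP
  -- classify the involutions outside `M` by the class of their product with `v₀`
  have hclass : ∀ k : G, orderOf k = 2 → k ∉ M → ∃ i : ℕ, i < p ∧ 0 < i ∧ IsConj (v₀ * k) (x ^ i) := by
    intro k hk hkM'
    set g := v₀ * k
    have hgo := CfsgLib.StrongEmbed.odd_mul e.se (c.V_le e hv₀) hv₀2 hk hkM'
    have hginv : v₀ * g * v₀⁻¹ = g⁻¹ := by
      simp only [g, mul_inv_rev, CfsgLib.Invol.inv_eq_self hk, CfsgLib.Invol.inv_eq_self hv₀2]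
      rw [← mul_assoc v₀ v₀, CfsgLib.Invol.mul_self_eq_one hv₀2, one_mul]
    have hg1 : g ≠ 1 := fun h => hkM' (by
      have := mul_eq_one_iff_inv_eq.1 h
      rw [CfsgLib.Invol.inv_eq_self hv₀2] at this
      exact this ▸ c.V_le e hv₀)
    obtain ⟨j, hj⟩ := c.inverted_pElement hv₀2 hgo hginv
    obtain ⟨P', hP'⟩ := (IsPGroup.of_card (n := j) (by rw [Nat.card_zpowers, hj]) :
      IsPGroup p (zpowers g)).exists_le_sylow
    obtain ⟨h, hh⟩ := MulAction.exists_smul_eq G P P'
    have hgT : h⁻¹ * g * h ∈ T := by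
      have := hP' (mem_zpowers g)
      rw [← hh, Sylow.coe_subgroup_smul] at this
      rw [← hPeq]
      exact mem_map_conj.1 this
    rw [hTeq, mem_zpowers_iff_mem_range_orderOf, Finset.mem_image] at hgT
    obtain ⟨i, hi, hxi⟩ := hgT
    rw [Finset.mem_range, hxo] at hi
    refine ⟨i, hi, ?_, isConj_iff.2 ⟨h⁻¹, by rw [hxi, inv_inv]⟩⟩
    by_contra h0
    rw [Nat.le_zero.1 (not_lt.1 h0), pow_zero] at hxi
    apply hg1
    calc g = h * (h⁻¹ * g * h) * h⁻¹ := by group
      _ = 1 := by rw [← hxi]; group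
  haveI : Fintype G := Fintype.ofFinite G
  set I' : Finset G := Finset.univ.filter fun k => orderOf k = 2 ∧ k ∉ M
  have hI' : I'.card = p * (Nat.card {y : G ⧸ M // y ≠ o}) := by
    let e2 : {k : G // orderOf k = 2 ∧ k ∉ M} ≃
        Σ y : {y : G ⧸ M // y ≠ o}, {i : G // orderOf i = 2 ∧ i • o = (y.1 : G ⧸ M)} :=
      { toFun := fun k => ⟨⟨k.1 • o, fun h => k.2.2 (CfsgLib.StrongEmbed.smul_mk_one_iff.1 h)⟩, k.1, k.2.1, rfl⟩
        invFun := fun a => ⟨a.2.1, a.2.2.1, fun h => a.1.2 (a.2.2.2.symm.trans (CfsgLib.StrongEmbed.smul_mk_one_iff.2 h))⟩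
        left_inv := fun k => rfl
        right_inv := by
          rintro ⟨⟨y, hy⟩, i, hi, hia⟩
          change i • o = y at hia
          subst hia
          rfl }
    haveI : Fintype {y : G ⧸ M // y ≠ o} := Fintype.ofFinite _
    rw [← Fintype.card_subtype, ← Nat.card_eq_fintype_card, Nat.card_congr e2, Nat.card_sigma,
      Finset.sum_congr rfl fun a _ => (CfsgLib.StrongEmbed.card_swap e.se (Ne.symm a.2)).trans hI, Finset.sum_const,
      Finset.card_univ, Nat.card_eq_fintype_card, smul_eq_mul, mul_comm]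
  -- the class function
  let cl : G → ℕ := fun k => if h : orderOf k = 2 ∧ k ∉ M then Nat.find (hclass k h.1 h.2) else 0
  have hcl : ∀ k, (hk : orderOf k = 2 ∧ k ∉ M) → cl k < p ∧ 0 < cl k ∧ IsConj (v₀ * k) (x ^ cl k) := by
    intro k hk
    simp only [cl, dif_pos hk]
    exact Nat.find_spec (hclass k hk.1 hk.2)
  have hfib : ∀ i ∈ I'.image cl, (I'.filter fun k => cl k = i).card = Nat.card M1 := by
    intro i hi
    obtain ⟨k₀, hk₀, rfl⟩ := Finset.mem_image.1 hi
    rw [Finset.mem_filter] at hk₀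
    have hk₀' := hk₀.2
    have hcomm : ∀ z ∈ M1, z * v₀ = v₀ * z := fun z hz => (mem_centralizer_iff.1 hz v₀ hv₀).symm
    have hmaps : ∀ z ∈ M1, z * k₀ * z⁻¹ ∈ I'.filter fun k => cl k = cl k₀ := by
      intro z hz
      have hzk : orderOf (z * k₀ * z⁻¹) = 2 ∧ z * k₀ * z⁻¹ ∉ M := by
        refine ⟨by rw [CfsgLib.Invol.orderOf_conj_eq, hk₀'.1], fun h => hk₀'.2 ?_⟩
        simpa [mul_assoc] using mul_mem (mul_mem (inv_mem (hM1M hz)) h) (hM1M hz)
      refine Finset.mem_filter.2 ⟨Finset.mem_filter.2 ⟨Finset.mem_univ _, hzk⟩, ?_⟩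
      have hc : IsConj (v₀ * k₀) (v₀ * (z * k₀ * z⁻¹)) := isConj_iff.2 ⟨z, by
        rw [← mul_assoc z, hcomm z hz]; group⟩
      simp only [cl, dif_pos hzk, dif_pos hk₀']
      refine Nat.find_congr' fun {n} => ?_
      exact and_congr Iff.rfl (and_congr Iff.rfl ⟨fun h => hc.trans h, fun h => hc.symm.trans h⟩)
    have hbij : (I'.filter fun k => cl k = cl k₀) = (Finset.univ.filter fun z => z ∈ M1).image
        fun z => z * k₀ * z⁻¹ := by
      refine Finset.Subset.antisymm (fun k hk => ?_) ?_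
      · rw [Finset.mem_filter, Finset.mem_filter] at hk
        obtain ⟨-, -, h1⟩ := hcl k hk.1.2
        obtain ⟨-, -, h2⟩ := hcl k₀ hk₀'
        rw [hk.2] at h1
        obtain ⟨a, ha⟩ := isConj_iff.1 (h2.trans h1.symm)
        -- move `v₀` back by an element of the centralizer
        set g' := v₀ * k
        have hg'inv : v₀ * g' * v₀⁻¹ = g'⁻¹ := by
          simp only [g', mul_inv_rev, CfsgLib.Invol.inv_eq_self hk.1.2.1, CfsgLib.Invol.inv_eq_self hv₀2]
          rw [← mul_assoc v₀ v₀, CfsgLib.Invol.mul_self_eq_one hv₀2, one_mul]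
        have hg'o := CfsgLib.StrongEmbed.odd_mul e.se (c.V_le e hv₀) hv₀2 hk.1.2.1 hk.1.2.2
        have hg'1 : g' ≠ 1 := fun h => hk.1.2.2 (by
          have := mul_eq_one_iff_inv_eq.1 h
          rw [CfsgLib.Invol.inv_eq_self hv₀2] at this
          exact this ▸ c.V_le e hv₀)
        obtain ⟨hC', -, -⟩ := c.centralizer_inverted e hA hv₀2 hg'o hg'1 hg'inv
        set t₁ := a * v₀ * a⁻¹
        have hginv : v₀ * (v₀ * k₀) * v₀⁻¹ = (v₀ * k₀)⁻¹ := by
          rw [mul_inv_rev, CfsgLib.Invol.inv_eq_self hk₀'.1, CfsgLib.Invol.inv_eq_self hv₀2, ← mul_assoc v₀ v₀,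
            CfsgLib.Invol.mul_self_eq_one hv₀2, one_mul]
        have ht₁ : t₁ * g' * t₁⁻¹ = g'⁻¹ := by
          calc t₁ * g' * t₁⁻¹ = a * (v₀ * (v₀ * k₀) * v₀⁻¹) * a⁻¹ := by rw [← ha]; simp [t₁, mul_assoc]
            _ = g'⁻¹ := by rw [hginv, ← ha]; group
        set w := v₀ * t₁
        have hwC : w ∈ centralizer ({g'} : Set G) := by
          rw [mem_centralizer_singleton_iff]
          have e1 := mul_inv_eq_iff_eq_mul.1 ht₁
          have e2 : v₀ * g'⁻¹ = g' * v₀ := by
            calc v₀ * g'⁻¹ = g' * (g'⁻¹ * v₀) * g'⁻¹ := by group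
              _ = g' * (v₀ * g') * g'⁻¹ := by rw [mul_inv_eq_iff_eq_mul.1 hg'inv]
              _ = g' * v₀ := by group
          rw [mul_assoc, e1, ← mul_assoc, e2, mul_assoc]
        obtain ⟨hwinv, hwodd⟩ := hC' w hwC
        obtain ⟨j, hj⟩ := hwodd
        set b := w ^ j
        have hbC : b ∈ centralizer ({g'} : Set G) := pow_mem hwC j
        obtain ⟨hbinv, -⟩ := hC' b hbC
        have hwb : b * b * w = 1 := by
          rw [← pow_add, ← pow_succ, show j + j + 1 = orderOf w by omega, pow_orderOf_eq_one]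
        have hbt : b * v₀ * b⁻¹ = t₁ := by
          have e1 : v₀ * b = b⁻¹ * v₀ := mul_inv_eq_iff_eq_mul.1 hbinv
          have e2 : b * v₀ = v₀ * b⁻¹ := by
            calc b * v₀ = b * (v₀ * b) * b⁻¹ := by group
              _ = b * (b⁻¹ * v₀) * b⁻¹ := by rw [e1]
              _ = v₀ * b⁻¹ := by group
          calc b * v₀ * b⁻¹ = v₀ * (b * b)⁻¹ := by rw [e2]; group
            _ = v₀ * w := by rw [inv_eq_of_mul_eq_one_right hwb]
            _ = t₁ := by simp [w, ← mul_assoc, CfsgLib.Invol.mul_self_eq_one hv₀2]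
        refine Finset.mem_image.2 ⟨b⁻¹ * a, Finset.mem_filter.2 ⟨Finset.mem_univ _, ?_⟩, ?_⟩
        · rw [show M1 = centralizer ({v₀} : Set G) from (c.centralizer_eq e hA hv₀ hv₀1).symm,
            mem_centralizer_singleton_iff]
          have : a * v₀ * a⁻¹ = b * v₀ * b⁻¹ := hbt.symm
          calc b⁻¹ * a * v₀ = b⁻¹ * (a * v₀ * a⁻¹) * a := by group
            _ = b⁻¹ * (b * v₀ * b⁻¹) * a := by rw [this]
            _ = v₀ * (b⁻¹ * a) := by group
        · have hbg : b⁻¹ * g' * b = g' := by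
            rw [mul_assoc, ← mem_centralizer_singleton_iff.1 hbC, inv_mul_cancel_left]
          have hconj : b⁻¹ * a * (v₀ * k₀) * (b⁻¹ * a)⁻¹ = v₀ * k := by
            calc b⁻¹ * a * (v₀ * k₀) * (b⁻¹ * a)⁻¹ = b⁻¹ * (a * (v₀ * k₀) * a⁻¹) * b := by group
              _ = v₀ * k := by rw [ha]; exact hbg
          have hv : b⁻¹ * a * v₀ * (b⁻¹ * a)⁻¹ = v₀ := by
            calc b⁻¹ * a * v₀ * (b⁻¹ * a)⁻¹ = b⁻¹ * (a * v₀ * a⁻¹) * b := by group
              _ = b⁻¹ * (b * v₀ * b⁻¹) * b := by rw [hbt]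
              _ = v₀ := by group
          refine mul_left_cancel (a := v₀) ?_
          calc v₀ * (b⁻¹ * a * k₀ * (b⁻¹ * a)⁻¹)
              = (b⁻¹ * a * v₀ * (b⁻¹ * a)⁻¹) * (b⁻¹ * a * k₀ * (b⁻¹ * a)⁻¹) := by rw [hv]
            _ = b⁻¹ * a * (v₀ * k₀) * (b⁻¹ * a)⁻¹ := by group
            _ = v₀ * k := hconj
      · intro k hk
        obtain ⟨z, hz, rfl⟩ := Finset.mem_image.1 hk
        exact hmaps z (Finset.mem_filter.1 hz).2
    rw [hbij, Finset.card_image_of_injOn, ← Fintype.card_subtype, ← Nat.card_eq_fintype_card]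
    intro a ha b hb hab
    simp only [Finset.coe_filter, Finset.mem_univ, true_and, Set.mem_ofPred_eq] at ha hb
    simp only at hab
    by_contra hne
    set z := b⁻¹ * a
    have hz : z ∈ M1 := mul_mem (inv_mem hb) ha
    have hz1 : z ≠ 1 := fun h => hne (inv_mul_eq_one.1 h).symm
    have hzk : z * k₀ = k₀ * z := by
      calc z * k₀ = b⁻¹ * (a * k₀ * a⁻¹) * a := by simp [z, mul_assoc]
        _ = b⁻¹ * (b * k₀ * b⁻¹) * a := by rw [hab]
        _ = k₀ * z := by simp [z, mul_assoc]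
    obtain ⟨l, hl⟩ := isConj_iff.1 (CfsgLib.StrongEmbed.isConj_of_invols e.se hk₀'.1 hv₀2)
    have hlz : l * z * l⁻¹ ∈ M1 := by
      rw [show M1 = centralizer ({v₀} : Set G) from (c.centralizer_eq e hA hv₀ hv₀1).symm,
        mem_centralizer_singleton_iff, ← hl]
      calc l * z * l⁻¹ * (l * k₀ * l⁻¹) = l * (z * k₀) * l⁻¹ := by group
        _ = l * (k₀ * z) * l⁻¹ := by rw [hzk]
        _ = _ := by group
    have hlM := c.ti e hA hz hz1 hlz
    refine hk₀'.2 ?_
    have := mul_mem (mul_mem (inv_mem hlM) (c.V_le e hv₀)) hlM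
    rwa [← hl, show l⁻¹ * (l * k₀ * l⁻¹) * l = k₀ by group] at this
  have hsum : I'.card = (I'.image cl).card * Nat.card M1 := by
    rw [Finset.card_eq_sum_card_image cl I', Finset.sum_congr rfl hfib, Finset.sum_const, smul_eq_mul]
  have hsub : I'.image cl ⊆ Finset.Ico 1 p := by
    intro i hi
    obtain ⟨k, hk, rfl⟩ := Finset.mem_image.1 hi
    obtain ⟨h1, h2, -⟩ := hcl k (Finset.mem_filter.1 hk).2
    exact Finset.mem_Ico.2 ⟨h2, h1⟩
  have hle := Finset.card_le_card hsub
  rw [Nat.card_Ico] at hle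
  have hpos : 0 < (I'.image cl).card :=
    Finset.card_pos.2 ⟨cl u, Finset.mem_image_of_mem _ (Finset.mem_filter.2 ⟨Finset.mem_univ _, hu, huM⟩)⟩
  have hpd : p ∣ (I'.image cl).card * Nat.card M1 := by rw [← hsum, hI']; exact dvd_mul_right _ _
  have := Nat.le_of_dvd hpos ((hp.out.dvd_mul.1 hpd).resolve_right hM1p)
  omega

end CfsgLib.PPrimeAb
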