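import Cfsg.Agent.PPrimeAbelian.EvenBase
import Cfsg.Agent.Kinf.SolvableSCN
import Cfsg.Agent.ZJ.ControlMain
import Cfsg.Agent.ZJ.Constrained
import Cfsg.Agent.Fusion.InnerZJ
import Cfsg.Agent.Transfer.Frobenius
import Cfsg.Agent.Transfer.Alperin

/-!
The case in which `Ω₁` of the Sylow `2`-subgroup does not centralize the odd core of the strongly embedded
subgroup: fusion of `p`-elements is controlled inside that subgroup, which has a quotient of order `p`.
-/

set_option autoImplicit false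
set_option linter.style.haveILetI false
set_option linter.unusedSectionVars false

namespace CfsgLib.PPrimeAb

open Subgroup CfsgLib.Functor
open scoped commutatorElement CfsgLib.Functor

universe u

variable {G : Type u} [Group G] [Finite G] {p : ℕ} [hp : Fact p.Prime]

/-- The index of the centralizer of an element, in a subgroup moving it transitively over a set. -/
theorem index_of_transitive {N : Subgroup G} {v : G} {S : Set G}
    (hin : ∀ n ∈ N, n * v * n⁻¹ ∈ S) (htr : ∀ w ∈ S, ∃ n ∈ N, n * v * n⁻¹ = w) :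
    ((centralizer ({v} : Set G)).subgroupOf N).index = Nat.card S := by
  set St := (centralizer ({v} : Set G)).subgroupOf N
  let f : N ⧸ St → S := fun y => ⟨(y.out : G) * v * (y.out : G)⁻¹, hin _ y.out.2⟩
  rw [index]
  refine Nat.card_eq_of_bijective f ⟨fun y z h => ?_, fun w => ?_⟩
  · have h' : (y.out : G) * v * (y.out : G)⁻¹ = (z.out : G) * v * (z.out : G)⁻¹ := congrArg Subtype.val h
    rw [← QuotientGroup.out_eq' y, ← QuotientGroup.out_eq' z, QuotientGroup.eq, mem_subgroupOf,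
      mem_centralizer_singleton_iff, Subgroup.coe_mul, Subgroup.coe_inv]
    calc (y.out : G)⁻¹ * z.out * v = (y.out : G)⁻¹ * ((z.out : G) * v * (z.out : G)⁻¹) * z.out := by group
      _ = (y.out : G)⁻¹ * ((y.out : G) * v * (y.out : G)⁻¹) * z.out := by rw [h']
      _ = _ := by group
  · obtain ⟨n, hn, hnw⟩ := htr w w.2
    obtain ⟨s, hs⟩ := QuotientGroup.mk_out_eq_mul St ⟨n, hn⟩
    refine ⟨QuotientGroup.mk ⟨n, hn⟩, Subtype.ext ?_⟩
    have hsc := mem_centralizer_singleton_iff.1 (mem_subgroupOf.1 s.2)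
    show ((QuotientGroup.mk ⟨n, hn⟩ : N ⧸ St).out : G) * v * ((QuotientGroup.mk ⟨n, hn⟩ : N ⧸ St).out : G)⁻¹ = w
    rw [hs, ← hnw, Subgroup.coe_mul, mul_assoc n, hsc]
    group

theorem pResidual_normal : (Cfsg.pResidual p G).Normal := by
  refine normalizer_eq_top_iff.1 (eq_top_iff.2 fun g _ => mem_normalizer_iff_map_conj_eq.2
    (CfsgLib.Solvable.eq_of_le_of_card_le ?_ (card_map_of_injective (MulAut.conj g).injective).ge))
  rw [Cfsg.pResidual, MonoidHom.map_closure, closure_le]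
  rintro _ ⟨y, hy, rfl⟩
  refine subset_closure ?_
  show Nat.Coprime (orderOf (MulAut.conj g y)) p
  rwa [MulEquiv.orderOf_eq]

/-- Factorization by the normalizer of `Z(J)` in a solvable group, for `p ≥ 5`. -/
theorem sup_normalizer_eq_top {X : Type u} [Group X] [Finite X] [Group.IsSolvable X] (hp5 : 5 ≤ p)
    (S : Sylow p X) :
    Cfsg.pPrimeCore p X ⊔ normalizer (Cfsg.centerThompsonAOf (S : Subgroup X) : Set X) = ⊤ := by
  set N := Cfsg.pPrimeCore p X
  have hp2 : p ≠ 2 := by omega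
  haveI : N.Normal := (CfsgLib.Solvable.pPrimeCore_spec p).1
  have hcop : (Nat.card N).Coprime p := CfsgLib.Solvable.coprime_card_pPrimeCore p
  set π := QuotientGroup.mk' N
  haveI : Group.IsSolvable (X ⧸ N) := Group.isSolvable_of_surjective (QuotientGroup.mk'_surjective N)
  have hinj : ∀ x ∈ (S : Subgroup X), π x = 1 → x = 1 := fun x hx h =>
    mem_bot.mp (CfsgLib.ZJ.isPGroup_inf_coprime S.2 hcop ▸
      (⟨hx, (QuotientGroup.eq_one_iff x).mp h⟩ : x ∈ (S : Subgroup X) ⊓ N))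
  set Sb := S.mapSurjective (f := π) (QuotientGroup.mk'_surjective N)
  have h1 : (CfsgLib.ZJ.famCenter (fun A : Subgroup (X ⧸ N) => IsMulCommutative A) (Sb : Subgroup (X ⧸ N))).Normal :=
    CfsgLib.ZJ.famCenter_normal hp2 CfsgLib.ZJ.admissible_abelian Sb _ (CfsgLib.ZJ.stronglyClosed_self Sb)
      (CfsgLib.ZJ.stableNormal_of_free hp2 (CfsgLib.SolvableSCN.not_involves_qd hp5))
      CfsgLib.Signalizer.centralizer_pCore_quotient_le
  rw [CfsgLib.ZJ.famCenter_abelian_eq, show (Sb : Subgroup (X ⧸ N)) = (S : Subgroup X).map π from rfl,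
    CfsgLib.ZJ.centerThompsonAOf_map π _ hinj] at h1
  set Z := Cfsg.centerThompsonAOf (S : Subgroup X) with hZ
  have hZS : Z ≤ S := by
    rw [hZ, ← CfsgLib.ZJ.famCenter_abelian_eq]
    exact CfsgLib.ZJ.famCenter_le CfsgLib.ZJ.admissible_abelian _
  have hcm : (Z.map π).comap π = Z ⊔ N := by rw [comap_map_eq, QuotientGroup.ker_mk']
  rw [eq_top_iff]
  intro g _
  have hg : g ∈ normalizer ((Z ⊔ N : Subgroup X) : Set X) := by
    rw [← hcm, normalizer_eq_top (H := (Z.map π).comap π)]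
    exact mem_top g
  obtain ⟨n, hn, hng⟩ := CfsgLib.ZJ.exists_mul_mem_normalizer (S.2.to_le hZS) hcop hg
  rw [show g = n⁻¹ * (n * g) by group]
  exact mul_mem (mem_sup_left (inv_mem hn)) (mem_sup_right hng)

variable (c : Ctx p G)
include c

theorem Ctx.qd_free : ¬ Cfsg.Involves ↥(Cfsg.qd p) G := by
  intro h
  obtain ⟨K, f, hf⟩ := CfsgLib.ZJ.exists_surjective_of_involves (CfsgLib.ZJ.involves_sl2_of_qd h)
  have hns : ¬ Group.IsSolvable (Matrix.SpecialLinearGroup (Fin 2) (ZMod p)) := fun hs =>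
    CfsgLib.Linear.PSLTwo.not_solvable (F := ZMod p) (by rw [Nat.card_zmod]; have := c.hp5; omega)
      (haveI := hs; Group.isSolvable_of_surjective (QuotientGroup.mk'_surjective _))
  rcases eq_or_ne K ⊤ with rfl | hK
  swap
  · haveI := c.solvable hK
    exact hns (Group.isSolvable_of_surjective hf)
  set φ : G →* Matrix.SpecialLinearGroup (Fin 2) (ZMod p) := f.comp (topEquiv (G := G)).symm.toMonoidHom
  have hφ : Function.Surjective φ := hf.comp (MulEquiv.surjective _)
  haveI := c.hmin.1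
  rcases IsSimpleGroup.eq_bot_or_eq_top_of_normal φ.ker inferInstance with hk | hk
  · obtain ⟨z, hz⟩ := hφ (-1)
    have hinj : Function.Injective φ := (MonoidHom.ker_eq_bot_iff φ).1 hk
    haveI : Fact (2 < p) := ⟨by have := c.hp5; omega⟩
    have hz1 : z ≠ 1 := fun e => by
      rw [e, map_one] at hz
      have := congrFun (congrFun (congrArg Subtype.val hz.symm) 0) 0
      simp [ZMod.neg_one_ne_one] at this
    refine c.centralizer_ne_top hz1 (eq_top_iff.2 fun g _ => mem_centralizer_singleton_iff.2 (hinj ?_))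
    rw [map_mul, map_mul, hz]
    exact Subtype.ext (by simp)
  · apply hns
    haveI : Subsingleton (Matrix.SpecialLinearGroup (Fin 2) (ZMod p)) := ⟨fun a b => by
      obtain ⟨x, rfl⟩ := hφ a
      obtain ⟨y, rfl⟩ := hφ b
      rw [MonoidHom.mem_ker.1 (hk ▸ mem_top x : x ∈ φ.ker), MonoidHom.mem_ker.1 (hk ▸ mem_top y : y ∈ φ.ker)]⟩
    infer_instance

variable {Q : Sylow 2 G} {V M : Subgroup G} (e : Emb Q V M)
include e

/-- `M` is the product of the normalizer of `Q` and the odd core. -/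
theorem Ctx.decomp {m : G} (hm : m ∈ M) :
    ∃ n ∈ normalizer ((Q : Subgroup G) : Set G), ∃ w ∈ core 2 M, n * w = m := by
  haveI : Fact (Nat.Prime 2) := ⟨Nat.prime_two⟩
  have hNM := c.normalizer_sylow_le e
  refine (CfsgLib.Solvable.mem_sup_of_le_normalizer (hNM.trans (le_normalizer_core M))).1 ?_
  refine c.le_of_frattini e.hM.1 (Q.subtype (c.sylow_le e)) le_sup_right ?_ ?_ hm
  · rw [Sylow.coe_subtype, map_subgroupOf_eq_of_le (c.sylow_le e)]
    exact le_normalizer.trans le_sup_left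
  · rw [Sylow.coe_subtype, map_subgroupOf_eq_of_le (c.sylow_le e)]
    exact inf_le_right.trans le_sup_left

/-- The core-part of a product moving `v` inside `V` fixes `v`. -/
theorem Ctx.fix_of_mem {w v : G} (hw : w ∈ core 2 M) (hv : v ∈ V) (h : w * v * w⁻¹ ∈ V) : w * v * w⁻¹ = v := by
  haveI : Fact (Nat.Prime 2) := ⟨Nat.prime_two⟩
  have hvn := (mem_normalizer_iff.1 (le_normalizer_core (p := 2) M (c.V_le e hv)) w⁻¹).1 (inv_mem hw)
  have h1 : w * v * w⁻¹ * v⁻¹ ∈ core 2 M := by simpa [mul_assoc] using mul_mem hw hvn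
  have h2 : w * v * w⁻¹ * v⁻¹ ∈ V := mul_mem h (inv_mem hv)
  have h3 : orderOf (w * v * w⁻¹ * v⁻¹) = 1 := by
    refine Nat.eq_one_of_dvd_coprimes (coprime_core (p := 2) M) (Subgroup.orderOf_dvd_natCard _ h1) ?_
    exact orderOf_dvd_of_pow_eq_one (e.hV.2 _ h2)
  exact mul_inv_eq_one.1 (orderOf_eq_one_iff.1 h3)

/-- The centralizer in `M` of an involution of `V`. -/
theorem Ctx.decomp_centralizer {v g : G} (hv : v ∈ V) (hv1 : v ≠ 1) (hg : g * v = v * g) :
    ∃ n ∈ centralizer ((Q : Subgroup G) : Set G), ∃ w ∈ core 2 M, w * v = v * w ∧ n * w = g := by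
  have hgM : g ∈ M := e.hC v (c.V_le e hv) (orderOf_two_of_mem e.hV hv hv1) (mem_centralizer_singleton_iff.2 hg)
  obtain ⟨n, hn, w, hw, rfl⟩ := c.decomp e hgM
  have hnV := omega_normalizer e.hVQ e.hV e.hmax hn
  have hnw : n * (w * v * w⁻¹) * n⁻¹ = v := by
    calc n * (w * v * w⁻¹) * n⁻¹ = n * w * v * (n * w)⁻¹ := by group
      _ = v := by rw [hg]; group
  have hwV : w * v * w⁻¹ ∈ V := (mem_normalizer_iff.1 hnV _).2 (by rw [hnw]; exact hv)
  have hfix := c.fix_of_mem e hw hv hwV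
  rw [hfix] at hnw
  exact ⟨n, (c.automizer e).2.2 v hv hv1 n hn hnw, w, hw, mul_inv_eq_iff_eq_mul.1 hfix, rfl⟩

theorem Ctx.exists_mem_V : ∃ v ∈ V, v ≠ 1 := by
  refine (bot_or_exists_ne_one V).resolve_left fun h => ?_
  have := e.h8
  rw [h, card_bot] at this
  norm_num at this

theorem Ctx.centralizer_V_le : centralizer (V : Set G) ≤ M := (centralizer_le_normalizer _).trans e.hNV

theorem Ctx.false_of_not_centralize (hB : ¬ core 2 M ≤ centralizer (V : Set G)) : False := by
  classical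
  haveI : Fact (Nat.Prime 2) := ⟨Nat.prime_two⟩
  have hp5 := c.hp5
  have hp2 : p ≠ 2 := by omega
  haveI : Group.IsSolvable M := c.solvable e.hM.1
  obtain ⟨hVcard, htr, hstab⟩ := c.automizer e
  obtain ⟨v₀, hv₀, hv₀1⟩ := c.exists_mem_V e
  have hQc := coprime_of_isPGroup (p := p) c.two_ne Q.2
  set NQ := normalizer ((Q : Subgroup G) : Set G)
  set CQ := centralizer ((Q : Subgroup G) : Set G)
  -- `O_{p'}(M)` is odd
  have hNodd : ¬ 2 ∣ Nat.card (core p M) := by
    intro h2
    obtain ⟨i, hi⟩ := exists_prime_orderOf_dvd_card' 2 h2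
    rw [← orderOf_coe] at hi
    obtain ⟨m, hm, hmi⟩ := c.exists_conj_mem e (core_le M i.2) hi
    have hmiN : m * i * m⁻¹ ∈ core p M := (mem_normalizer_iff.1 (le_normalizer_core M hm) _).1 i.2
    have hm1 : m * i * m⁻¹ ≠ 1 := fun h => CfsgLib.Invol.ne_one hi (conj_eq_one_iff.1 h)
    have hVN : V ≤ core p M := fun v hv => by
      rcases eq_or_ne v 1 with rfl | hv1
      · exact one_mem _
      obtain ⟨n, hn, rfl⟩ := htr _ hmi hm1 v hv hv1
      exact (mem_normalizer_iff.1 (le_normalizer_core M (c.normalizer_sylow_le e hn)) _).1 hmiN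
    have hVW : V ≤ normalizer (core 2 M : Set G) := (c.V_le e).trans (le_normalizer_core M)
    have h1 : ⁅core 2 M, V⁆ ≤ core p M := (commutator_mono le_rfl hVN).trans
      (le_normalizer_iff_commutator_le_right.1 ((core_le M).trans (le_normalizer_core M)))
    have hcop : (Nat.card V).Coprime (Nat.card (core 2 M)) :=
      CfsgLib.Signalizer.coprime_card e.hV fun h => (Fact.out : Nat.Prime 2).ne_one
        (Nat.eq_one_of_dvd_coprimes (coprime_core M) h dvd_rfl)
    have h2 : ⁅core 2 M, V⁆ = ⊥ := by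
      rw [← CfsgLib.CoprimeAct.commutator_commutator hVW hcop (Or.inl (CfsgLib.Signalizer.isSolvable e.hV))]
      refine le_bot_iff.1 ((commutator_mono h1 hVN).trans (le_of_eq ?_))
      rw [commutator_eq_bot_iff_le_centralizer]
      exact fun x hx => mem_centralizer_iff.2 fun y hy => c.hyp.comm (coprime_core M) hy hx
    exact hB (commutator_eq_bot_iff_le_centralizer.1 h2)
  -- the index `p`
  set C := CQ.subgroupOf NQ
  have hCidx : C.index = p := by
    have hSt : (centralizer ({v₀} : Set G)).subgroupOf NQ = C := by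
      ext n
      rw [mem_subgroupOf, mem_subgroupOf, mem_centralizer_singleton_iff]
      refine ⟨fun h => hstab v₀ hv₀ hv₀1 n n.2 (by rw [h, mul_inv_cancel_right]), fun h => ?_⟩
      exact (mem_centralizer_iff.1 h v₀ (e.hVQ hv₀)).symm
    rw [← hSt, index_of_transitive (S := (V : Set G) \ {1})
      (fun n hn => ⟨(mem_normalizer_iff.1 (omega_normalizer e.hVQ e.hV e.hmax hn) _).1 hv₀,
        fun h => hv₀1 (conj_eq_one_iff.1 h)⟩) fun w hw => htr v₀ hv₀ hv₀1 w hw.1 hw.2]
    have h1 := Set.ncard_sdiff_singleton_add_one (one_mem V) (Set.toFinite (V : Set G))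
    rw [← Nat.card_coe_set_eq, ← Nat.card_coe_set_eq] at h1
    have h2 : Nat.card (V : Set G) = Nat.card V := rfl
    omega
  have hWN : NQ ≤ normalizer (core 2 M : Set G) := (c.normalizer_sylow_le e).trans (le_normalizer_core M)
  have hCQN : CQ ≤ NQ := centralizer_le_normalizer _
  set M1 := CQ ⊔ core 2 M
  have hmemM1 : ∀ {g : G}, g ∈ M1 ↔ ∃ n ∈ CQ, ∃ w ∈ core 2 M, n * w = g :=
    CfsgLib.Solvable.mem_sup_of_le_normalizer (hCQN.trans hWN)
  -- the derived group of `M` lies in `M1`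
  have hderN : ∀ a ∈ NQ, ∀ b ∈ NQ, ⁅a, b⁆ ∈ CQ := by
    haveI : C.Normal := ⟨fun n hn g => by
      rw [mem_subgroupOf, mem_centralizer_iff] at hn ⊢
      intro x hx
      have hx' : (g : G)⁻¹ * x * g ∈ (Q : Subgroup G) := by
        simpa using (mem_normalizer_iff.1 (inv_mem g.2) x).1 hx
      calc x * (g * n * (g : G)⁻¹) = (g : G) * ((g : G)⁻¹ * x * g * n) * (g : G)⁻¹ := by group
        _ = (g : G) * ((n : G) * ((g : G)⁻¹ * x * g)) * (g : G)⁻¹ := by rw [hn _ hx']
        _ = g * n * (g : G)⁻¹ * x := by group⟩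
    haveI : IsCyclic (NQ ⧸ C) := isCyclic_of_prime_card (p := p) (by rw [← index_eq_card, hCidx])
    intro a ha b hb
    letI : CommGroup (NQ ⧸ C) := IsCyclic.commGroup
    have h : ⁅(⟨a, ha⟩ : NQ), ⟨b, hb⟩⁆ ∈ C := by
      rw [← QuotientGroup.eq_one_iff, ← QuotientGroup.mk'_apply, map_commutatorElement,
        commutatorElement_eq_one_iff_mul_comm]
      exact mul_comm _ _
    exact h
  haveI hM1n : (M1.subgroupOf M).Normal := by
    have hle : M1 ≤ M := sup_le (hCQN.trans (c.normalizer_sylow_le e)) (core_le M)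
    refine (normal_subgroupOf_iff_le_normalizer hle).2 fun m hm => ?_
    obtain ⟨n, hn, w, hw, rfl⟩ := c.decomp e hm
    refine mul_mem ?_ (le_normalizer (mem_sup_right hw))
    refine mem_normalizer_iff_map_conj_eq.2 (CfsgLib.Solvable.eq_of_le_of_card_le ?_
      (card_map_of_injective (MulAut.conj n).injective).ge)
    rintro _ ⟨x, hx, rfl⟩
    obtain ⟨a, ha, b, hb, rfl⟩ := hmemM1.1 hx
    have hC' : n * a * n⁻¹ ∈ CQ := by
      have := mul_mem (hderN n hn a (hCQN ha)) ha
      simpa [commutatorElement_def, mul_assoc] using this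
    exact hmemM1.2 ⟨_, hC', _, (mem_normalizer_iff.1 (hWN hn) b).1 hb, by simp [mul_assoc]⟩
  have hderM : ∀ a ∈ M, ∀ b ∈ M, ⁅a, b⁆ ∈ M1 := by
    intro a ha b hb
    have key : ∀ m : M, ∃ n : G, n ∈ NQ ∧ ∃ hn : n ∈ M,
        QuotientGroup.mk' (M1.subgroupOf M) m = QuotientGroup.mk' (M1.subgroupOf M) ⟨n, hn⟩ := by
      intro m
      obtain ⟨n, hn, w, hw, hnw⟩ := c.decomp e m.2
      refine ⟨n, hn, c.normalizer_sylow_le e hn, ?_⟩
      rw [show m = ⟨n, c.normalizer_sylow_le e hn⟩ * ⟨w, core_le M hw⟩ from Subtype.ext hnw.symm, map_mul]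
      rw [show QuotientGroup.mk' (M1.subgroupOf M) ⟨w, core_le M hw⟩ = 1 from
        (QuotientGroup.eq_one_iff _).2 (mem_subgroupOf.2 (mem_sup_right hw)), mul_one]
    obtain ⟨na, hna, hnaM, hea⟩ := key ⟨a, ha⟩
    obtain ⟨nb, hnb, hnbM, heb⟩ := key ⟨b, hb⟩
    have h : ⁅(⟨a, ha⟩ : M), ⟨b, hb⟩⁆ ∈ M1.subgroupOf M := by
      rw [← QuotientGroup.eq_one_iff, ← QuotientGroup.mk'_apply, map_commutatorElement, hea, heb,
        ← map_commutatorElement]
      exact (QuotientGroup.eq_one_iff _).2 (mem_subgroupOf.2 (mem_sup_left (hderN na hna nb hnb)))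
    exact h
  -- a `p`-element of `N(Q)` outside `M1`
  obtain ⟨g₀, hg₀, hg₀c⟩ : ∃ g ∈ NQ, g ∉ CQ := by
    by_contra h
    push Not at h
    have : C = ⊤ := eq_top_iff.2 fun n _ => h n n.2
    rw [this, index_top] at hCidx
    omega
  obtain ⟨x, hx, hxc, k, hk⟩ := c.hyp.exists_pElement hQc hg₀ hg₀c
  have hxM := c.normalizer_sylow_le e hx
  have hx1 : x ≠ 1 := fun h => hxc (h ▸ one_mem _)
  have hxM1 : x ∉ M1 := fun h => by
    obtain ⟨n, hn, w, hw, hnw⟩ := hmemM1.1 h
    have hxv : x * v₀ * x⁻¹ ∈ V := (mem_normalizer_iff.1 (omega_normalizer e.hVQ e.hV e.hmax hx) _).1 hv₀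
    have hnV := omega_normalizer e.hVQ e.hV e.hmax (hCQN hn)
    have hwv : w * v₀ * w⁻¹ ∈ V := by
      refine (mem_normalizer_iff.1 hnV _).2 ?_
      rwa [show n * (w * v₀ * w⁻¹) * n⁻¹ = x * v₀ * x⁻¹ by rw [← hnw]; group]
    have hfix := c.fix_of_mem e hw hv₀ hwv
    refine hxc (hstab v₀ hv₀ hv₀1 x hx ?_)
    calc x * v₀ * x⁻¹ = n * (w * v₀ * w⁻¹) * n⁻¹ := by rw [← hnw]; group
      _ = v₀ := by rw [hfix, ← mem_centralizer_iff.1 hn v₀ (e.hVQ hv₀), mul_inv_cancel_right]
  -- a Sylow `p`-subgroup of `M` containing it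
  have hzx : IsPGroup p (zpowers (⟨x, hxM⟩ : M)) := IsPGroup.of_card (n := k) (by
    rw [Nat.card_zpowers, orderOf_mk, hk])
  obtain ⟨S, hS⟩ := hzx.exists_le_sylow
  set P := (S : Subgroup M).map M.subtype
  have hxP : x ∈ P := ⟨⟨x, hxM⟩, hS (mem_zpowers _), rfl⟩
  have hPp : IsPGroup p P := S.2.map _
  have hP1 : P ≠ ⊥ := fun h => hx1 (by rwa [h, mem_bot] at hxP)
  set Z := Cfsg.centerThompsonAOf P
  have hZeq : Z = (Cfsg.centerThompsonAOf (S : Subgroup M)).map M.subtype :=
    CfsgLib.ZJ.centerThompsonAOf_map M.subtype _ fun y _ h => M.subtype_injective (h.trans (map_one _).symm)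
  have hZP : Z ≤ P := inf_le_left.trans (map_subtype_le _)
  set H := normalizer (Cfsg.centerThompsonAOf (S : Subgroup M) : Set M)
  have hfac : Cfsg.pPrimeCore p M ⊔ H = ⊤ := sup_normalizer_eq_top hp5 S
  have hHidx : ¬ 2 ∣ H.index := by
    intro h
    apply hNodd
    haveI : (Cfsg.pPrimeCore p M).Normal := (CfsgLib.Solvable.pPrimeCore_spec p).1
    have h1 := CfsgLib.Solvable.card_sup_mul_card_inf
      (le_normalizer_of_normal : H ≤ normalizer (Cfsg.pPrimeCore p M : Set M))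
    rw [sup_comm, hfac, card_top, ← H.card_mul_index, mul_assoc] at h1
    rw [core, card_map_of_injective M.subtype_injective, ← Nat.eq_of_mul_eq_mul_left Nat.card_pos h1]
    exact dvd_mul_of_dvd_left h _
  obtain ⟨T⟩ : Nonempty (Sylow 2 H) := inferInstance
  obtain ⟨S2, hS2⟩ := (T.2.map H.subtype).exists_le_sylow
  have hS2H : (S2 : Subgroup M) ≤ H := by
    suffices (T : Subgroup H).map H.subtype = S2 from this ▸ map_subtype_le _
    refine eq_of_le_of_card_ge hS2 ?_
    rw [card_map_of_injective H.subtype_injective, S2.card_eq_multiplicity, T.card_eq_multiplicity,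
      ← H.card_mul_index, Nat.factorization_mul Nat.card_pos.ne' index_ne_zero_of_finite, Finsupp.add_apply,
      Nat.factorization_eq_zero_of_not_dvd hHidx, add_zero]
  obtain ⟨m, hm⟩ := MulAction.exists_smul_eq M (Q.subtype (c.sylow_le e)) S2
  set E := V.map (MulAut.conj (m : G)).toMonoidHom
  have hE : Cfsg.IsElementaryAbelian 2 E := by
    haveI := e.hV.1
    refine ⟨Subgroup.map_isMulCommutative V _, ?_⟩
    rintro _ ⟨a, ha, rfl⟩
    rw [← map_pow, e.hV.2 a ha, map_one]
  have hE4 : 2 ^ 2 ≤ Nat.card E := by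
    rw [card_map_of_injective (MulAut.conj (m : G)).injective]
    exact le_trans (Nat.pow_le_pow_right (by norm_num) (by norm_num)) e.h8
  have hEM : E ≤ M := by
    rintro _ ⟨v, hv, rfl⟩
    exact mul_mem (mul_mem m.2 (c.V_le e hv)) (inv_mem m.2)
  have hEN : E ≤ normalizer (Z : Set G) := by
    rintro _ ⟨v, hv, rfl⟩
    have h : MulAut.conj m (⟨v, c.V_le e hv⟩ : M) ∈ (S2 : Subgroup M) := by
      rw [← hm, Sylow.coe_subgroup_smul]
      exact smul_mem_pointwise_smul _ _ _ (e.hVQ hv)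
    rw [hZeq]
    exact le_normalizer_map _ ⟨_, hS2H h, rfl⟩
  have hZ1 : Z ≠ ⊥ := CfsgLib.Fusion.centerThompsonAOf_ne_bot hPp hP1
  have hNZ : normalizer (Z : Set G) ≤ M :=
    c.le_of_four e (c.normalizer_ne_top hZ1 (c.ne_top_of_isPGroup (hPp.to_le hZP))) hEN hEM hE hE4
  -- `P` is a Sylow subgroup of `G`
  have KA := CfsgLib.ZJ.zkind_centerThompsonA.{u} (p := p) hp2
  obtain ⟨PG, hPG⟩ := hPp.exists_le_sylow
  have hPeq : P = PG := by
    by_contra hne
    have hlt := CfsgLib.Fusion.lt_inf_normalizer PG.2 (lt_of_le_of_ne hPG hne)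
    refine hlt.ne ?_
    have hle : (PG : Subgroup G) ⊓ normalizer (P : Set G) ≤ M :=
      inf_le_right.trans ((KA.normalizer_le P).trans hNZ)
    rw [← map_subgroupOf_eq_of_le hle]
    exact congrArg (Subgroup.map M.subtype) (S.is_maximal' ((PG.2.to_le inf_le_left).comap_subtype (K := M))
      fun y hy => hlt.le (mem_map_of_mem M.subtype hy)).symm
  -- `G` is perfect for `p`
  have hres : Cfsg.pResidual p G = ⊤ := by
    haveI := c.hmin.1
    refine (IsSimpleGroup.eq_bot_or_eq_top_of_normal _ pResidual_normal).resolve_left fun h => hv₀1 ?_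
    rw [← mem_bot, ← h]
    refine subset_closure (show Nat.Coprime (orderOf v₀) p from ?_)
    rw [orderOf_two_of_mem e.hV hv₀ hv₀1]
    exact (Nat.coprime_primes Nat.prime_two hp.out).2 c.two_ne
  have hfoc : (PG : Subgroup G) ≤ (PG : Subgroup G).focalSubgroup := by
    have := CfsgLib.Fusion.inf_pResidual_le_focal PG
    rwa [hres, inf_top_eq] at this
  apply hxM1
  have hle : (PG : Subgroup G).focalSubgroup ≤ M1 := by
    rw [focalSubgroup_def, closure_le]
    rintro _ ⟨hg, a, ha, u, rfl⟩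
    have hconj : u * a⁻¹ * u⁻¹ ∈ (PG : Subgroup G) := by
      have := mul_mem (inv_mem ha) hg
      simpa [commutatorElement_def, mul_assoc] using this
    have hsub : u ⋆ zpowers a⁻¹ ≤ (PG : Subgroup G) := by
      rintro _ ⟨y, ⟨i, rfl⟩, rfl⟩
      show MulAut.conj u (a⁻¹ ^ i) ∈ _
      rw [map_zpow]
      exact zpow_mem (by simpa using hconj) i
    obtain ⟨n, hn, hne⟩ := CfsgLib.ZJ.control_of_free hp2 KA G c.qd_free PG _
      (CfsgLib.ZJ.stronglyClosed_self PG) (zpowers a⁻¹) u (zpowers_le.2 (inv_mem ha)) hsub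
    rw [← hPeq] at ha hn
    have h1 := hne a⁻¹ (mem_zpowers _)
    have h2 : ⁅a, u⁆ = ⁅a, n⁆ := by
      rw [commutatorElement_def, commutatorElement_def, mul_assoc a u, mul_assoc a, ← h1]
      group
    rw [h2]
    exact hderM a (map_subtype_le _ ha) n (hNZ hn)
  exact hle (hfoc (hPeq ▸ hxP))

end CfsgLib.PPrimeAb
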