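import Cfsg.Agent.PPrimeAbelian.Basic
import Cfsg.Agent.Signalizer.Transitivity
import Cfsg.Agent.Signalizer.Local
import Cfsg.Agent.Solvable.Fitting
import Cfsg.Agent.Solvable.CoprimeAct
import Cfsg.Agent.Invol.StrongEmbedded
import Cfsg.Agent.Invol.CoreOddEmbedded
import Cfsg.Agent.S1279
import Mathlib.GroupTheory.Perm.Basic
import Mathlib.Data.Nat.Factorial.Basic

/-!
A minimal simple group of even order in which subgroups of order prime to `p` are abelian of exponent
dividing `p - 1` has a strongly embedded maximal subgroup, in which the automizer of a Sylow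
`2`-subgroup has order `p`.
-/

set_option autoImplicit false
set_option linter.style.haveILetI false
set_option linter.unusedSectionVars false

namespace CfsgLib.PPrimeAb

open Subgroup
open scoped commutatorElement

universe u

/-- A strongly embedded maximal subgroup containing the normalizer of `Ω₁` of a Sylow `2`-subgroup. -/
structure Emb {G : Type u} [Group G] (Q : Sylow 2 G) (V M : Subgroup G) : Prop where
  hVQ : V ≤ (Q : Subgroup G)
  hV : Cfsg.IsElementaryAbelian 2 V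
  hmax : ∀ v ∈ (Q : Subgroup G), v ^ 2 = 1 → v ∈ V
  h8 : 2 ^ 3 ≤ Nat.card V
  hM : IsCoatom M
  hNV : normalizer (V : Set G) ≤ M
  se : Cfsg.IsStronglyEmbedded M
  hC : ∀ i ∈ M, orderOf i = 2 → centralizer ({i} : Set G) ≤ M

variable {G : Type u} [Group G] [Finite G] {p : ℕ} [hp : Fact p.Prime]

theorem orderOf_two_of_mem {V : Subgroup G} (hV : Cfsg.IsElementaryAbelian 2 V) {v : G} (hv : v ∈ V)
    (hv1 : v ≠ 1) : orderOf v = 2 := by
  haveI : Fact (Nat.Prime 2) := ⟨Nat.prime_two⟩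
  exact orderOf_eq_prime (hV.2 v hv) hv1

variable (c : Ctx p G)
include c

theorem Ctx.two_ne : (2 : ℕ) ≠ p := by have := c.hp5; omega

/-- `[O, V]` is a `p`-group for a `2`-subgroup `V` acting on a subgroup `O` of coprime order. -/
theorem Ctx.comm_isPGroup {O V : Subgroup G} (hne : O ⊔ V ≠ ⊤) (hVp : (Nat.card V).Coprime p)
    (hn : V ≤ normalizer (O : Set G)) (hcop : (Nat.card V).Coprime (Nat.card O)) :
    IsPGroup p ↥⁅O, V⁆ := by
  set L := O ⊔ V
  haveI : Group.IsSolvable L := c.solvable hne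
  haveI : (Cfsg.pCore p L).Normal := (CfsgLib.Solvable.pCore_spec p).1
  set f := QuotientGroup.mk' (Cfsg.pCore p L)
  have hbot : Cfsg.pCore p (L ⧸ Cfsg.pCore p L) = ⊥ := by
    have h1 : (Cfsg.pCore p (L ⧸ Cfsg.pCore p L)).comap f ≤ Cfsg.pCore p L := by
      refine CfsgLib.Solvable.le_pCore p ((CfsgLib.Solvable.pCore_spec p).1.comap f) ?_
      refine (CfsgLib.Solvable.isPGroup_pCore p).comap_of_ker_isPGroup f ?_
      rw [QuotientGroup.ker_mk']
      exact CfsgLib.Solvable.isPGroup_pCore p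
    rw [← map_comap_eq_self_of_surjective (QuotientGroup.mk'_surjective _)
      (Cfsg.pCore p (L ⧸ Cfsg.pCore p L)), Subgroup.map_eq_bot_iff, QuotientGroup.ker_mk']
    exact h1
  haveI : Group.IsSolvable (L ⧸ Cfsg.pCore p L) := Group.isSolvable_of_surjective (QuotientGroup.mk'_surjective _)
  set F := Cfsg.fittingSubgroup (L ⧸ Cfsg.pCore p L)
  haveI hFnil : Group.IsNilpotent F := CfsgLib.Solvable.isNilpotent_fittingSubgroup
  haveI hFn : F.Normal := CfsgLib.Solvable.fittingSubgroup_normal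
  have hFp : (Nat.card F).Coprime p := by
    refine (hp.out.coprime_iff_not_dvd.2 fun hd => ?_).symm
    obtain ⟨T⟩ : Nonempty (Sylow p F) := inferInstance
    have hTn : (T : Subgroup F).Normal :=
      Sylow.normal_of_normalizerCondition Group.normalizerCondition_of_isNilpotent T
    haveI : (T : Subgroup F).Characteristic := T.characteristic_of_normal hTn
    have hle : (T : Subgroup F).map F.subtype ≤ ⊥ := hbot ▸
      CfsgLib.Solvable.le_pCore p (ConjAct.normal_of_characteristic_of_normal (H := F) (K := (T : Subgroup F)))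
        (T.2.map _)
    exact T.ne_bot_of_dvd_card hd ((map_eq_bot_iff_of_injective _ F.subtype_injective).1 (le_bot_iff.1 hle))
  set V' := V.subgroupOf L
  set O' := O.subgroupOf L
  set Vb := V'.map f
  have hV'p : (Nat.card V').Coprime p := by
    rwa [Nat.card_congr (subgroupOfEquivOfLe (le_sup_right : V ≤ L)).toEquiv]
  have hVbp : (Nat.card Vb).Coprime p := hV'p.coprime_dvd_left (card_map_dvd _ _)
  have hK : (Nat.card ↥(Vb ⊔ F)).Coprime p :=
    Nat.Coprime.coprime_dvd_left (CfsgLib.Solvable.card_sup_dvd le_normalizer_of_normal)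
      (Nat.Coprime.mul_left hVbp hFp)
  obtain ⟨hKc, -⟩ := (c.hyp.subgroup L).of_image f (QuotientGroup.mk'_surjective _) hK inferInstance
  haveI := hKc
  have hVC : Vb ≤ centralizer (F : Set (L ⧸ Cfsg.pCore p L)) := fun v hv => mem_centralizer_iff.2 fun y hy =>
    setLike_mul_comm (mem_sup_right hy : y ∈ Vb ⊔ F) (mem_sup_left hv)
  have hVF : Vb ≤ F := hVC.trans CfsgLib.Fitting.centralizer_fittingSubgroup_le_of_solvable
  have h2 : ⁅⁅O', V'⁆, V'⁆ ≤ Cfsg.pCore p L := by
    rw [← QuotientGroup.ker_mk' (Cfsg.pCore p L), ← Subgroup.map_eq_bot_iff, map_commutator, map_commutator]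
    refine le_bot_iff.1 (le_trans (commutator_mono ((commutator_mono le_rfl hVF).trans
      (commutator_le_right (O'.map f) F)) le_rfl) (le_of_eq ?_))
    rw [commutator_eq_bot_iff_le_centralizer]
    exact fun y hy => mem_centralizer_iff.2 fun v hv => (mem_centralizer_iff.1 (hVC hv) y hy).symm
  have hn' : V' ≤ normalizer (O' : Set L) := fun v hv => (le_normalizer_comap L.subtype) (hn hv)
  have hcop' : (Nat.card V').Coprime (Nat.card O') := by
    rw [Nat.card_congr (subgroupOfEquivOfLe (le_sup_right : V ≤ L)).toEquiv,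
      Nat.card_congr (subgroupOfEquivOfLe (le_sup_left : O ≤ L)).toEquiv]
    exact hcop
  rw [CfsgLib.CoprimeAct.commutator_commutator hn' hcop' (Or.inl inferInstance)] at h2
  have hmap : ⁅O', V'⁆.map L.subtype = ⁅O, V⁆ := by
    rw [map_commutator, map_subgroupOf_eq_of_le le_sup_left, map_subgroupOf_eq_of_le le_sup_right]
  rw [← hmap]
  exact ((CfsgLib.Solvable.isPGroup_pCore p).to_le h2).map _

/-- A subgroup with an abelian Sylow `2`-subgroup lies in `Y` when its core and a Sylow normalizer do. -/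
theorem Ctx.le_of_frattini {X Y : Subgroup G} (hX : X ≠ ⊤) (S : Sylow 2 X) (hO : core 2 X ≤ Y)
    (hS : (S : Subgroup X).map X.subtype ≤ Y)
    (hN : X ⊓ normalizer (((S : Subgroup X).map X.subtype : Subgroup G) : Set G) ≤ Y) : X ≤ Y := by
  haveI : Fact (Nat.Prime 2) := ⟨Nat.prime_two⟩
  haveI : Group.IsSolvable X := c.solvable hX
  have hab : IsMulCommutative (S : Subgroup X) := ((c.hyp.subgroup X).of_isPGroup c.two_ne S.2).1
  set K := (S : Subgroup X) ⊔ Cfsg.pPrimeCore 2 X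
  haveI : K.Normal := CfsgLib.Fitting.sup_pPrimeCore_normal S hab
  have htop := Sylow.normalizer_sup_eq_top' S (le_sup_left : (S : Subgroup X) ≤ K)
  have h := congrArg (Subgroup.map X.subtype) htop
  rw [Subgroup.map_sup, Subgroup.map_sup, ← MonoidHom.range_eq_map, range_subtype] at h
  refine h.ge.trans (sup_le ?_ (sup_le hS hO))
  refine le_trans (le_inf (map_subtype_le _) ?_) hN
  exact le_normalizer_map _

/-- Existence of the strongly embedded maximal subgroup. -/
theorem Ctx.exists_emb (h2 : 2 ∣ Nat.card G) :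
    ∃ (Q : Sylow 2 G) (V M : Subgroup G), Emb Q V M := by
  haveI : Fact (Nat.Prime 2) := ⟨Nat.prime_two⟩
  obtain ⟨Q⟩ : Nonempty (Sylow 2 G) := inferInstance
  have hQc := coprime_of_isPGroup (p := p) c.two_ne Q.2
  obtain ⟨V, hVQ, hV, hmax⟩ := exists_omega (q := 2) (c.hyp _ hQc).1
  have h8 := c.card_omega c.two_ne h2 Q hVQ hV hmax
  have hQcomm : ∀ a ∈ (Q : Subgroup G), ∀ b ∈ (Q : Subgroup G), a * b = b * a := fun a ha b hb =>
    c.hyp.comm hQc ha hb
  have hVp : (Nat.card V).Coprime p := hQc.coprime_dvd_left (card_dvd_of_le hVQ)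
  have hVbot : V ≠ ⊥ := fun h => by
    rw [h, card_bot] at h8
    norm_num at h8
  have hNVtop : normalizer (V : Set G) ≠ ⊤ := c.normalizer_ne_top hVbot (c.ne_top_of_coprime hVp)
  set θ : G → Subgroup G := fun a => Cfsg.centralizerPPrimeCore 2 a
  have hθ : Cfsg.IsSolvableSignalizerFunctor 2 V θ := Cfsg.Agent.S1279.result 2 V hV
    (le_trans (Nat.pow_le_pow_right (by norm_num) (by norm_num)) h8)
    fun a _ ha1 => c.solvable (c.centralizer_ne_top ha1)
  have hVn : ∀ v ∈ V, V ≤ normalizer (θ v : Set G) := fun v hv =>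
    (CfsgLib.Signalizer.le_centralizer_singleton hV hv).trans
      (CfsgLib.Signalizer.centralizer_le_normalizer_centralizerPPrimeCore v)
  have hodd : ∀ v : G, ¬ 2 ∣ Nat.card (θ v) := fun v h => (Fact.out : Nat.Prime 2).ne_one
    (Nat.eq_one_of_dvd_coprimes (CfsgLib.Signalizer.coprime_card_centralizerPPrimeCore (p := 2) v) h dvd_rfl)
  have hYp : ∀ v ∈ V, v ≠ 1 → IsPGroup p ↥⁅θ v, V⁆ := fun v hv hv1 =>
    c.comm_isPGroup (fun h => c.centralizer_ne_top hv1 (top_le_iff.1 (h ▸ sup_le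
      CfsgLib.Signalizer.mem_centralizerPPrimeCore_le (CfsgLib.Signalizer.le_centralizer_singleton hV hv))))
      hVp (hVn v hv) (CfsgLib.Signalizer.coprime_card hV (hodd v))
  have hYθ : ∀ v ∈ V, ⁅θ v, V⁆ ≤ θ v := fun v hv => le_normalizer_iff_commutator_le_left.1 (hVn v hv)
  have hmem : ∀ v ∈ V, v ≠ 1 → ⁅θ v, V⁆ ∈ Cfsg.signalizerFamily 2 V θ := fun v hv hv1 =>
    CfsgLib.Signalizer.family_of_le (CfsgLib.Signalizer.theta_mem hθ hv hv1) (hYθ v hv)
      (normalizer_commutator_ge_right _ _)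
  obtain ⟨v₀, hv₀, hv₀1⟩ := (bot_or_exists_ne_one V).resolve_left hVbot
  obtain ⟨U, hU0, hU⟩ := CfsgLib.Signalizer.exists_maxMember_ge (hmem v₀ hv₀ hv₀1) (hYp v₀ hv₀ hv₀1)
  have hYU : ∀ v ∈ V, v ≠ 1 → ⁅θ v, V⁆ ≤ U := by
    intro v hv hv1
    obtain ⟨U', hU1, hU'⟩ := CfsgLib.Signalizer.exists_maxMember_ge (hmem v hv hv1) (hYp v hv hv1)
    obtain ⟨k, hk, hkU⟩ := CfsgLib.Signalizer.transitivity hV hθ h8 hU' hU
    have hkθ : ∀ w ∈ V, w ≠ 1 → k ∈ θ w := fun w hw hw1 => CfsgLib.Signalizer.signalizerInf_le hw hw1 hk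
    have hkV : k ∈ centralizer (V : Set G) := mem_centralizer_iff.2 fun w hw => by
      rcases eq_or_ne w 1 with rfl | hw1
      · simp
      · exact (mem_centralizer_singleton_iff.1
          (CfsgLib.Signalizer.mem_centralizerPPrimeCore_le (hkθ w hw hw1))).symm
    have hfix : ⁅θ v, V⁆.map (MulAut.conj k).toMonoidHom = ⁅θ v, V⁆ := by
      have e1 : (θ v).map (MulAut.conj k).toMonoidHom = θ v :=
        mem_normalizer_iff_map_conj_eq.1 (le_normalizer (hkθ v hv hv1))
      have e2 : V.map (MulAut.conj k).toMonoidHom = V :=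
        mem_normalizer_iff_map_conj_eq.1 (centralizer_le_normalizer _ hkV)
      rw [map_commutator, e1, e2]
    rw [← hkU, ← hfix]
    exact map_mono hU1
  set Y : Subgroup G := ⨆ v : {v : G // v ∈ V ∧ v ≠ 1}, ⁅θ (v : G), V⁆
  have hY : IsPGroup p Y := hU.2.1.to_le (iSup_le fun v => hYU v v.2.1 v.2.2)
  have hNY : normalizer (V : Set G) ≤ normalizer (Y : Set G) := by
    intro g hg
    refine mem_normalizer_iff_map_conj_eq.2 (CfsgLib.Solvable.eq_of_le_of_card_le ?_
      (card_map_of_injective (MulAut.conj g).injective).ge)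
    rw [Subgroup.map_iSup]
    refine iSup_le fun v => ?_
    have hg' : V.map (MulAut.conj g).toMonoidHom = V := mem_normalizer_iff_map_conj_eq.1 hg
    set w := g * (v : G) * g⁻¹
    have hw : w ∈ V := (mem_normalizer_iff.1 hg _).1 v.2.1
    have hw1 : w ≠ 1 := fun e => v.2.2 (conj_eq_one_iff.1 e)
    refine le_trans ?_ (le_iSup (fun v : {v : G // v ∈ V ∧ v ≠ 1} => ⁅θ (v : G), V⁆) ⟨w, hw, hw1⟩)
    rw [map_commutator]
    refine commutator_mono ?_ hg'.le
    have hC : (centralizer ({(v : G)} : Set G)).map (MulAut.conj g).toMonoidHom = centralizer {w} := by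
      ext x
      rw [mem_map_conj, mem_centralizer_singleton_iff, mem_centralizer_singleton_iff]
      constructor
      · intro h
        calc x * w = g * (g⁻¹ * x * g * (v : G)) * g⁻¹ := by simp [w, mul_assoc]
          _ = g * ((v : G) * (g⁻¹ * x * g)) * g⁻¹ := by rw [h]
          _ = w * x := by simp [w, mul_assoc]
      · intro h
        calc g⁻¹ * x * g * (v : G) = g⁻¹ * (x * w) * g := by simp [w, mul_assoc]
          _ = g⁻¹ * (w * x) * g := by rw [h]
          _ = (v : G) * (g⁻¹ * x * g) := by simp [w, mul_assoc]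
    show (core 2 (centralizer ({(v : G)} : Set G))).map _ ≤ core 2 (centralizer {w})
    rw [← hC]
    exact core_conj_le _ g
  obtain ⟨M, hM, hNV, hYM⟩ : ∃ M : Subgroup G, IsCoatom M ∧ normalizer (V : Set G) ≤ M ∧ Y ≤ M := by
    by_cases hY1 : Y = ⊥
    · obtain ⟨M, hM, hle⟩ := (eq_top_or_exists_le_coatom _).resolve_left hNVtop
      exact ⟨M, hM, hle, hY1 ▸ bot_le⟩
    · obtain ⟨M, hM, hle⟩ := (eq_top_or_exists_le_coatom _).resolve_left
        (c.normalizer_ne_top hY1 (c.ne_top_of_isPGroup hY))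
      exact ⟨M, hM, hNY.trans hle, le_normalizer.trans hle⟩
  have hNQ : normalizer ((Q : Subgroup G) : Set G) ≤ M := (omega_normalizer hVQ hV hmax).trans hNV
  have hQM : (Q : Subgroup G) ≤ M := le_normalizer.trans hNQ
  have hCv : ∀ v ∈ V, v ≠ 1 → centralizer ({v} : Set G) ≤ M := by
    intro v hv hv1
    have hQC : (Q : Subgroup G) ≤ centralizer ({v} : Set G) := fun x hx =>
      mem_centralizer_singleton_iff.2 (hQcomm x hx v (hVQ hv))
    refine c.le_of_frattini (c.centralizer_ne_top hv1) (Q.subtype hQC) ?_ ?_ ?_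
    · show θ v ≤ M
      rw [← CfsgLib.CoprimeAct.commutator_sup_centralizer (hVn v hv)
        (CfsgLib.Signalizer.coprime_card hV (hodd v)) (Or.inl (CfsgLib.Signalizer.isSolvable hV))]
      exact sup_le ((le_iSup (fun v : {v : G // v ∈ V ∧ v ≠ 1} => ⁅θ (v : G), V⁆) ⟨v, hv, hv1⟩).trans hYM)
        (inf_le_right.trans ((centralizer_le_normalizer _).trans hNV))
    · rw [Sylow.coe_subtype, map_subgroupOf_eq_of_le hQC]
      exact hQM
    · rw [Sylow.coe_subtype, map_subgroupOf_eq_of_le hQC]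
      exact inf_le_right.trans hNQ
  have hC : ∀ i ∈ M, orderOf i = 2 → centralizer ({i} : Set G) ≤ M := by
    intro i hi hio
    obtain ⟨T, hT⟩ := (IsPGroup.of_card (n := 1) (by rw [Nat.card_zpowers, orderOf_mk, hio, pow_one]) :
      IsPGroup 2 (zpowers (⟨i, hi⟩ : M))).exists_le_sylow
    obtain ⟨m, hm⟩ := MulAction.exists_smul_eq M T (Q.subtype hQM)
    have hmi : (m : G) * i * (m : G)⁻¹ ∈ (Q : Subgroup G) := by
      have h : MulAut.conj m ⟨i, hi⟩ ∈ ((Q.subtype hQM : Sylow 2 M) : Subgroup M) := by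
        rw [← hm, Sylow.coe_subgroup_smul]
        exact smul_mem_pointwise_smul _ _ _ (hT (mem_zpowers _))
      exact h
    have ho : orderOf ((m : G) * i * (m : G)⁻¹) = 2 := by rw [CfsgLib.Invol.orderOf_conj_eq, hio]
    have hv : (m : G) * i * (m : G)⁻¹ ∈ V := hmax _ hmi (by rw [← ho, pow_orderOf_eq_one])
    intro x hx
    have hx' : (m : G) * x * (m : G)⁻¹ ∈ centralizer ({(m : G) * i * (m : G)⁻¹} : Set G) := by
      rw [mem_centralizer_singleton_iff]
      calc (m : G) * x * (m : G)⁻¹ * ((m : G) * i * (m : G)⁻¹) = (m : G) * (x * i) * (m : G)⁻¹ := by group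
        _ = (m : G) * (i * x) * (m : G)⁻¹ := by rw [mem_centralizer_singleton_iff.1 hx]
        _ = _ := by group
    have hmem := hCv _ hv (CfsgLib.Invol.ne_one ho) hx'
    simpa [mul_assoc] using mul_mem (mul_mem (inv_mem m.2) hmem) m.2
  have heven : Even (Nat.card M) := by
    refine even_iff_two_dvd.2 (dvd_trans ?_ (card_dvd_of_le hQM))
    rw [Q.card_eq_multiplicity]
    exact dvd_pow_self 2 ((Nat.prime_two.factorization_pos_of_dvd Nat.card_pos.ne' h2).ne')
  have hcore : Odd (Nat.card M.normalCore) := by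
    rw [c.normalCore_eq_bot hM.1, card_bot]
    exact odd_one
  refine ⟨Q, V, M, hVQ, hV, hmax, h8, hM, hNV,
    CfsgLib.CoreOdd.stronglyEmbedded heven hC hcore (Q.subtype hQM) ?_, hC⟩
  rw [Sylow.coe_subtype, map_subgroupOf_eq_of_le hQM]
  exact hNQ

/-! ### Consequences -/

variable {Q : Sylow 2 G} {V M : Subgroup G} (e : Emb Q V M)
include e

theorem Ctx.normalizer_sylow_le : normalizer ((Q : Subgroup G) : Set G) ≤ M :=
  (omega_normalizer e.hVQ e.hV e.hmax).trans e.hNV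

theorem Ctx.sylow_le : (Q : Subgroup G) ≤ M := le_normalizer.trans (c.normalizer_sylow_le e)

theorem Ctx.V_le : V ≤ M := le_normalizer.trans e.hNV

/-- An involution of `M` is conjugate in `M` to an element of `V`. -/
theorem Ctx.exists_conj_mem {i : G} (hi : i ∈ M) (hio : orderOf i = 2) :
    ∃ m ∈ M, m * i * m⁻¹ ∈ V := by
  haveI : Fact (Nat.Prime 2) := ⟨Nat.prime_two⟩
  obtain ⟨T, hT⟩ := (IsPGroup.of_card (n := 1) (by rw [Nat.card_zpowers, orderOf_mk, hio, pow_one]) :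
    IsPGroup 2 (zpowers (⟨i, hi⟩ : M))).exists_le_sylow
  obtain ⟨m, hm⟩ := MulAction.exists_smul_eq M T (Q.subtype (c.sylow_le e))
  refine ⟨m, m.2, e.hmax _ ?_ ?_⟩
  · have h : MulAut.conj m ⟨i, hi⟩ ∈ ((Q.subtype (c.sylow_le e) : Sylow 2 M) : Subgroup M) := by
      rw [← hm, Sylow.coe_subgroup_smul]
      exact smul_mem_pointwise_smul _ _ _ (hT (mem_zpowers _))
    exact h
  · rw [conj_pow, ← hio, pow_orderOf_eq_one, mul_one, mul_inv_cancel]

/-- A proper subgroup containing a four-group of `M` lies in `M`. -/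
theorem Ctx.le_of_four {X E : Subgroup G} (hX : X ≠ ⊤) (hEX : E ≤ X) (hEM : E ≤ M)
    (hE : Cfsg.IsElementaryAbelian 2 E) (hE4 : 2 ^ 2 ≤ Nat.card E) : X ≤ M := by
  haveI : Fact (Nat.Prime 2) := ⟨Nat.prime_two⟩
  have hE1 : E ≠ ⊥ := fun h => by
    rw [h, card_bot] at hE4
    norm_num at hE4
  obtain ⟨e₀, he₀, he₀1⟩ := (bot_or_exists_ne_one E).resolve_left hE1
  have he₀2 := orderOf_two_of_mem hE he₀ he₀1
  obtain ⟨S, hS⟩ := ((CfsgLib.Signalizer.isPGroup hE).comap_subtype (K := X)).exists_le_sylow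
  set SG := (S : Subgroup X).map X.subtype
  have hSc : (Nat.card SG).Coprime p := coprime_of_isPGroup c.two_ne (S.2.map _)
  have he₀S : e₀ ∈ SG := ⟨⟨e₀, hEX he₀⟩, hS (show (⟨e₀, hEX he₀⟩ : X) ∈ E.comap X.subtype from he₀), rfl⟩
  have hSM : SG ≤ M := fun x hx => e.hC e₀ (hEM he₀) he₀2
    (mem_centralizer_singleton_iff.2 (c.hyp.comm hSc hx he₀S))
  refine c.le_of_frattini hX S ?_ hSM ?_
  · refine CfsgLib.Signalizer.le_of_forall_centralizer hE le_rfl hE4
      (hEX.trans (le_normalizer_core X)) ?_ fun a ha ha1 => inf_le_right.trans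
        (e.hC a (hEM ha) (orderOf_two_of_mem hE ha ha1))
    exact fun h => (Fact.out : Nat.Prime 2).ne_one (Nat.eq_one_of_dvd_coprimes (coprime_core X) h dvd_rfl)
  · rintro n ⟨-, hn⟩
    refine CfsgLib.StrongEmbed.mem_of_conj_mem e.se (hEM he₀) he₀2 ?_
    have := hSM ((mem_normalizer_iff.1 (inv_mem hn) e₀).1 he₀S)
    simpa using this

/-- The normalizer of `Q` permutes the involutions of `V` transitively, there are `p` of them, and the
stabilizer of each is the centralizer of `Q`. -/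
theorem Ctx.automizer :
    Nat.card V = p + 1 ∧
      (∀ v ∈ V, v ≠ 1 → ∀ w ∈ V, w ≠ 1 →
        ∃ n ∈ normalizer ((Q : Subgroup G) : Set G), n * v * n⁻¹ = w) ∧
      ∀ v ∈ V, v ≠ 1 → ∀ n ∈ normalizer ((Q : Subgroup G) : Set G), n * v * n⁻¹ = v →
        n ∈ centralizer ((Q : Subgroup G) : Set G) := by
  classical
  haveI : Fact (Nat.Prime 2) := ⟨Nat.prime_two⟩
  have hQc := coprime_of_isPGroup (p := p) c.two_ne Q.2
  set N := normalizer ((Q : Subgroup G) : Set G)
  have htr : ∀ v ∈ V, v ≠ 1 → ∀ w ∈ V, w ≠ 1 → ∃ n ∈ N, n * v * n⁻¹ = w := by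
    intro v hv hv1 w hw hw1
    obtain ⟨g, hg⟩ := isConj_iff.1 (CfsgLib.StrongEmbed.isConj_of_invols e.se
      (orderOf_two_of_mem e.hV hv hv1) (orderOf_two_of_mem e.hV hw hw1))
    obtain ⟨n, hn, hne⟩ := CfsgLib.TransferBasic.exists_normalizer_conj (P := Q) (Z := (Q : Subgroup G))
      (fun x hx => mem_centralizer_iff.2 fun y hy => c.hyp.comm hQc hy hx) le_rfl
      (fun k hk => CfsgLib.Solvable.eq_of_le_of_card_le hk (card_map_of_injective (MulAut.conj k).injective).ge)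
      (e.hVQ hv) (u := g) (by rw [hg]; exact e.hVQ hw)
    exact ⟨n, hn, hne.trans hg⟩
  have hVn : N ≤ normalizer (V : Set G) := omega_normalizer e.hVQ e.hV e.hmax
  obtain ⟨v₀, hv₀, hv₀1⟩ := (bot_or_exists_ne_one V).resolve_left fun h => by
    have := e.h8
    rw [h, card_bot] at this
    norm_num at this
  -- the number of involutions of `V`
  set C := (centralizer ((Q : Subgroup G) : Set G)).subgroupOf N
  haveI : C.Normal := by
    refine ⟨fun n hn g => ?_⟩
    rw [mem_subgroupOf, mem_centralizer_iff] at hn ⊢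
    intro x hx
    have hx' : (g : G)⁻¹ * x * g ∈ (Q : Subgroup G) := by
      simpa using (mem_normalizer_iff.1 (inv_mem g.2) x).1 hx
    calc x * (g * n * (g : G)⁻¹) = (g : G) * ((g : G)⁻¹ * x * g * n) * (g : G)⁻¹ := by group
      _ = (g : G) * ((n : G) * ((g : G)⁻¹ * x * g)) * (g : G)⁻¹ := by rw [hn _ hx']
      _ = g * n * (g : G)⁻¹ * x := by group
  have hquot : IsPGroup p (N ⧸ C) := fun y => by
    obtain ⟨g, rfl⟩ := QuotientGroup.mk_surjective y
    obtain ⟨k, -, -, -, hk⟩ := c.hyp.exists_pow_centralizes hQc g.2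
    exact ⟨k, by rw [← QuotientGroup.mk_pow, QuotientGroup.eq_one_iff]; exact hk⟩
  set St := (centralizer ({v₀} : Set G)).subgroupOf N
  let f : N ⧸ St → {w : G // w ∈ (V : Set G) ∧ w ≠ 1} := fun y => ⟨(y.out : G) * v₀ * (y.out : G)⁻¹,
    (mem_normalizer_iff.1 (hVn y.out.2) v₀).1 hv₀, fun h => hv₀1 (conj_eq_one_iff.1 h)⟩
  have hf : Function.Bijective f := by
    refine ⟨fun y z h => ?_, fun w => ?_⟩
    · have h' : (y.out : G) * v₀ * (y.out : G)⁻¹ = (z.out : G) * v₀ * (z.out : G)⁻¹ := congrArg Subtype.val h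
      rw [← QuotientGroup.out_eq' y, ← QuotientGroup.out_eq' z, QuotientGroup.eq, mem_subgroupOf,
        mem_centralizer_singleton_iff, Subgroup.coe_mul, Subgroup.coe_inv]
      calc (y.out : G)⁻¹ * z.out * v₀ = (y.out : G)⁻¹ * ((z.out : G) * v₀ * (z.out : G)⁻¹) * z.out := by group
        _ = (y.out : G)⁻¹ * ((y.out : G) * v₀ * (y.out : G)⁻¹) * z.out := by rw [h']
        _ = _ := by group
    · obtain ⟨n, hn, hnw⟩ := htr v₀ hv₀ hv₀1 w w.2.1 w.2.2
      obtain ⟨s, hs⟩ := QuotientGroup.mk_out_eq_mul St ⟨n, hn⟩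
      refine ⟨QuotientGroup.mk ⟨n, hn⟩, Subtype.ext ?_⟩
      have hsc := mem_centralizer_singleton_iff.1 (mem_subgroupOf.1 s.2)
      show ((QuotientGroup.mk ⟨n, hn⟩ : N ⧸ St).out : G) * v₀ * ((QuotientGroup.mk ⟨n, hn⟩ : N ⧸ St).out : G)⁻¹ = w
      rw [hs, ← hnw, Subgroup.coe_mul, mul_assoc n, hsc]
      group
  have hcardV : Nat.card {w : G // w ∈ (V : Set G) ∧ w ≠ 1} + 1 = Nat.card V := by
    rw [show Nat.card {w : G // w ∈ (V : Set G) ∧ w ≠ 1} = ((V : Set G) \ {1}).ncard from Nat.card_coe_set_eq _,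
      Set.ncard_sdiff_singleton_add_one (one_mem V) (Set.toFinite _)]
    exact (Nat.card_coe_set_eq _).symm
  have hidx : St.index + 1 = Nat.card V := by
    rw [index, Nat.card_eq_of_bijective f hf, hcardV]
  obtain ⟨a, ha⟩ : ∃ a, St.index = p ^ a := by
    obtain ⟨k, hk⟩ := IsPGroup.iff_card.1 hquot
    have hle : C ≤ St := fun n hn => by
      rw [mem_subgroupOf] at hn ⊢
      exact mem_centralizer_singleton_iff.2 (mem_centralizer_iff.1 hn v₀ (e.hVQ hv₀)).symm
    obtain ⟨a, -, ha⟩ := (Nat.dvd_prime_pow hp.out).1 ((index_dvd_of_le hle).trans (index_eq_card C ▸ hk.dvd))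
    exact ⟨a, ha⟩
  obtain ⟨m, hm⟩ := IsPGroup.iff_card.1 (CfsgLib.Signalizer.isPGroup e.hV)
  rw [ha, hm] at hidx
  have h8 := e.h8
  rw [hm] at h8
  have hm3 : 3 ≤ m := (Nat.pow_le_pow_iff_right (by norm_num)).1 h8
  have hpV : Nat.card V = p + 1 := by
    rw [hm, ← hidx]
    congr 1
    have hp2 : p % 2 = 1 := hp.out.eq_two_or_odd.resolve_left (by have := c.hp5; omega)
    have hsq : ∀ b : ℕ, p ^ (2 * b) % 4 = 1 := fun b => by
      have h4 : p % 4 = 1 ∨ p % 4 = 3 := by omega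
      have : p ^ 2 % 4 = 1 := by rcases h4 with h | h <;> rw [Nat.pow_mod, h]
      rw [pow_mul, Nat.pow_mod, this, one_pow, Nat.one_mod_eq_one.2 (by norm_num)]
    have h2m : 4 ∣ 2 ^ m := ⟨2 ^ (m - 2), by rw [show (4 : ℕ) = 2 ^ 2 by norm_num, ← pow_add]; congr 1; omega⟩
    rcases Nat.even_or_odd' a with ⟨b, rfl | rfl⟩
    · have := hsq b
      omega
    obtain ⟨j, l, hl, hjl⟩ := Nat.exists_eq_pow_mul_and_not_dvd (show p + 1 ≠ 0 by omega) 2 (by norm_num)
    have hdvd : (p + 1) ∣ 2 ^ m := by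
      rw [← hidx]
      exact (Odd.nat_add_dvd_pow_add_pow p 1 ⟨b, rfl⟩).trans (by rw [one_pow])
    obtain ⟨i, -, hi⟩ := (Nat.dvd_prime_pow Nat.prime_two).1 hdvd
    have hsq2 : p ^ 2 % 2 ^ (i + 1) = 1 := by
      have hi1 : 1 ≤ i := by
        rcases i with _ | i
        · have := hp.out.two_le
          omega
        · omega
      have h2i : 2 ^ (i + 1) = 2 * 2 ^ i := by ring
      have hp1 : p = 2 ^ i - 1 := by omega
      have h2i1 : 2 ≤ 2 ^ i := Nat.le_self_pow (by omega) 2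
      have hdv : 2 ^ (i + 1) ∣ 2 ^ i * 2 ^ i := by
        rw [← pow_add]; exact pow_dvd_pow 2 (by omega)
      obtain ⟨t, ht⟩ := hdv
      have hexp : p ^ 2 + 2 * 2 ^ i = 2 ^ i * 2 ^ i + 1 := by
        obtain ⟨r, hr⟩ : ∃ r, 2 ^ i = r + 1 := ⟨2 ^ i - 1, by omega⟩
        rw [hp1, hr, Nat.add_sub_cancel]; ring
      rw [ht, ← h2i] at hexp
      have h3 : (p ^ 2 + 2 ^ (i + 1)) % 2 ^ (i + 1) = (2 ^ (i + 1) * t + 1) % 2 ^ (i + 1) := by rw [hexp]
      rw [Nat.add_mod_right, Nat.mul_add_mod, Nat.mod_eq_of_lt (Nat.one_lt_pow (by omega) (by norm_num))] at h3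
      exact h3
    have hmod : (p ^ (2 * b + 1) + 1) % 2 ^ (i + 1) = 2 ^ i % 2 ^ (i + 1) := by
      rw [← hi, pow_succ, pow_mul, Nat.add_mod, Nat.mul_mod, Nat.pow_mod, hsq2, one_pow]
      simp [Nat.add_mod]
    rw [hidx] at hmod
    have hmi : m ≤ i := by
      by_contra h
      rw [Nat.mod_eq_zero_of_dvd (pow_dvd_pow 2 (by omega : i + 1 ≤ m)),
        Nat.mod_eq_of_lt (Nat.pow_lt_pow_right (by norm_num) (by omega))] at hmod
      exact (pow_pos (by norm_num : 0 < 2) i).ne hmod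
    have hle : 2 ^ m ≤ 2 ^ i := Nat.pow_le_pow_right (by norm_num) hmi
    have : p ^ (2 * b + 1) ≤ p ^ 1 := by rw [pow_one]; omega
    rcases b with _ | b
    · simp
    · have := (Nat.pow_le_pow_iff_right hp.out.one_lt).1 this
      omega
  refine ⟨hpV, htr, fun v hv hv1 g hg hfix => ?_⟩
  obtain ⟨k, l, hl, hgo, hk⟩ := c.hyp.exists_pow_centralizes hQc hg
  have hl0 : 0 < l := Nat.pos_of_ne_zero fun h => hl (h ▸ dvd_zero p)
  set x := g ^ l
  have hxo : orderOf x = p ^ k := by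
    rw [orderOf_pow, hgo, Nat.gcd_eq_right (dvd_mul_left _ _), Nat.mul_div_cancel _ hl0]
  have hxN : x ∈ N := pow_mem hg _
  have hxv : x * v * x⁻¹ = v := by
    have : Commute g v := mul_inv_eq_iff_eq_mul.1 hfix
    rw [(this.pow_left l).eq, mul_inv_cancel_right]
  refine mem_of_pow_mem ((hp.out.coprime_iff_not_dvd.2 hl).pow_left k) hk
    (c.hyp.centralizes_of_omega c.two_ne Q.2 e.hmax hxN hxo ?_)
  intro w hw
  rcases eq_or_ne w 1 with rfl | hw1
  · simp
  rcases eq_or_ne w v with rfl | hwv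
  · exact hxv
  let σ : Equiv.Perm {w : G // w ∈ (V : Set G) ∧ w ≠ 1 ∧ w ≠ v} :=
    Equiv.Perm.subtypePerm (MulAut.conj x).toEquiv fun w => by
      show x * w * x⁻¹ ∈ (V : Set G) ∧ x * w * x⁻¹ ≠ 1 ∧ x * w * x⁻¹ ≠ v ↔ _
      refine and_congr (mem_normalizer_iff.1 (hVn hxN) w).symm (and_congr ?_ ?_)
      · exact not_congr conj_eq_one_iff
      · refine not_congr ⟨fun h => ?_, fun h => by rw [h, hxv]⟩
        exact mul_left_cancel (mul_right_cancel (h.trans hxv.symm))
  have hσp : σ ^ p ^ k = 1 := by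
    refine Equiv.ext fun y => Subtype.ext ?_
    have key : ∀ j : ℕ, ((σ ^ j) y : G) = x ^ j * y * (x ^ j)⁻¹ := by
      intro j
      induction j with
      | zero => simp
      | succ j ih =>
        rw [pow_succ', Equiv.Perm.mul_apply]
        show x * ((σ ^ j) y : G) * x⁻¹ = _
        rw [ih, pow_succ']
        group
    rw [key, ← hxo, pow_orderOf_eq_one]
    simp
  have hcardσ : Nat.card {w : G // w ∈ (V : Set G) ∧ w ≠ 1 ∧ w ≠ v} < p := by
    have h1 : ({w : G | w ∈ (V : Set G) ∧ w ≠ 1 ∧ w ≠ v}).ncard < ((V : Set G) \ {1}).ncard :=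
      Set.ncard_lt_ncard ⟨fun y hy => ⟨hy.1, hy.2.1⟩, fun h => (h ⟨hv, hv1⟩).2.2 rfl⟩ (Set.toFinite _)
    have h2 := Set.ncard_sdiff_singleton_add_one (one_mem V) (Set.toFinite (V : Set G))
    rw [← Nat.card_coe_set_eq (V : Set G)] at h2
    rw [← Nat.card_coe_set_eq, ← Nat.card_coe_set_eq] at h1
    rw [← Nat.card_coe_set_eq] at h2
    have : Nat.card (V : Set G) = Nat.card V := rfl
    show Nat.card ({w : G | w ∈ (V : Set G) ∧ w ≠ 1 ∧ w ≠ v} : Set G) < p
    omega
  have hσ1 : σ = 1 := by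
    refine orderOf_eq_one_iff.1 (Nat.eq_one_of_dvd_coprimes ?_ (orderOf_dvd_of_pow_eq_one hσp)
      (_root_.orderOf_dvd_natCard σ))
    rw [Nat.card_perm]
    refine (hp.out.coprime_iff_not_dvd.2 fun h => ?_).pow_left k
    exact absurd ((hp.out.dvd_factorial).1 h) (not_le.2 hcardσ)
  have := congrArg (fun τ : Equiv.Perm _ => ((τ ⟨w, hw, hw1, hwv⟩ : {w : G // w ∈ (V : Set G) ∧ w ≠ 1 ∧ w ≠ v}) : G)) hσ1
  exact this

end CfsgLib.PPrimeAb
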