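import Cfsg.Agent.PPrimeAbelian.OddCount
import Cfsg.Agent.PPrimeAbelian.EvenA
import Cfsg.Agent.S0144
import Cfsg.Agent.Solvable.SchurZassenhaus

/-!
A finite group in which every subgroup of order prime to `p` is abelian of exponent dividing `p - 1` is
solvable.
-/

set_option autoImplicit false
set_option linter.style.haveILetI false
set_option linter.unusedSectionVars false

namespace CfsgLib.PPrimeAb

open Subgroup

universe u

theorem no_ctx {G : Type u} [Group G] [Finite G] {p : ℕ} [hp : Fact p.Prime] (c : Ctx p G) : False := by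
  rcases Nat.even_or_odd (Nat.card G) with h | h
  · obtain ⟨Q, V, M, e⟩ := c.exists_emb h.two_dvd
    by_cases hA : core 2 M ≤ centralizer (V : Set G)
    · exact c.false_of_centralize e hA
    · exact c.false_of_not_centralize e hA
  · exact c.false_of_odd h

theorem small_prime {G : Type u} [Group G] [Finite G] {p : ℕ} [hp : Fact p.Prime] (h : Hyp p G) (h5 : p < 5) :
    Group.IsSolvable G := by
  have hp23 : p = 2 ∨ p = 3 := by
    have := hp.out.two_le
    rcases (show p = 2 ∨ p = 3 ∨ p = 4 by omega) with h | h | h
    · exact Or.inl h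
    · exact Or.inr h
    · exact absurd (h ▸ hp.out) (by norm_num)
  have hprimes : ∀ q : ℕ, q.Prime → q ∣ Nat.card G → q = 2 ∨ q = 3 := by
    intro q hq hd
    haveI := Fact.mk hq
    by_cases hqp : q = p
    · rw [hqp]; exact hp23
    · have h1 := Nat.le_of_dvd (by have := hp.out.two_le; omega) (h.prime_dvd_pred hqp hd)
      have := hq.two_le
      omega
  refine Cfsg.Agent.S0144.result 2 3 ((Nat.card G).factorization 2) ((Nat.card G).factorization 3)
    Nat.prime_two Nat.prime_three ?_
  refine Nat.eq_of_factorization_eq Nat.card_pos.ne' (by positivity) fun q => ?_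
  rw [Nat.factorization_mul (by positivity) (by positivity), Nat.Prime.factorization_pow Nat.prime_two,
    Nat.Prime.factorization_pow Nat.prime_three]
  by_cases hq : q.Prime ∧ q ∣ Nat.card G
  · rcases hprimes q hq.1 hq.2 with rfl | rfl <;> simp
  · have h0 : (Nat.card G).factorization q = 0 := by
      rcases not_and_or.1 hq with h | h
      · exact Nat.factorization_eq_zero_of_not_prime _ h
      · exact Nat.factorization_eq_zero_of_not_dvd h
    rw [Finsupp.add_apply, h0]
    rcases eq_or_ne q 2 with rfl | h2
    · simp [h0]
    rcases eq_or_ne q 3 with rfl | h3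
    · simp [h0]
    simp [Ne.symm h2, Ne.symm h3]

theorem solvable_aux (p : ℕ) [hp : Fact p.Prime] : ∀ (n : ℕ) (G : Type u) [Group G] [Finite G],
    Nat.card G = n → Hyp p G → Group.IsSolvable G := by
  intro n
  induction n using Nat.strong_induction_on with
  | _ n ih =>
    intro G _ _ hn h
    subst hn
    have hsub : ∀ H : Subgroup G, H ≠ ⊤ → Group.IsSolvable H := fun H hH =>
      ih _ (CfsgLib.Solvable.card_lt_of_ne_top hH) H rfl (h.subgroup H)
    by_cases hab : IsMulCommutative G
    · haveI := hab
      letI : CommGroup G := { (inferInstance : Group G) with mul_comm := hab.is_comm.comm }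
      infer_instance
    haveI : Nontrivial G := by
      by_contra hs
      rw [not_nontrivial_iff_subsingleton] at hs
      exact hab ⟨⟨fun a b => Subsingleton.elim _ _⟩⟩
    by_cases hsimple : IsSimpleGroup G
    · by_contra hns
      rcases Nat.lt_or_ge p 5 with h5 | h5
      · exact hns (small_prime h h5)
      refine no_ctx (p := p) (G := G) ⟨h5, h, ⟨hsimple, hab, hsub⟩, ?_⟩
      by_contra hd
      haveI := (h ⊤ (by rw [card_top]; exact (hp.out.coprime_iff_not_dvd.2 hd).symm)).1
      exact hab ⟨⟨fun a b => setLike_mul_comm (s := (⊤ : Subgroup G)) (mem_top a) (mem_top b)⟩⟩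
    -- a proper nontrivial normal subgroup
    obtain ⟨N, hN, hN0, hN1⟩ : ∃ N : Subgroup G, N.Normal ∧ N ≠ ⊥ ∧ N ≠ ⊤ := by
      by_contra hno
      push Not at hno
      exact hsimple ⟨fun N hN => (em (N = ⊥)).imp id fun h0 => hno N hN h0⟩
    haveI := hN
    haveI := hsub N hN1
    set f := QuotientGroup.mk' N
    have hf : Function.Surjective f := QuotientGroup.mk'_surjective N
    suffices hq : Group.IsSolvable (G ⧸ N) by
      haveI := hq
      exact Group.isSolvable_of_ker_le_range N.subtype f (by rw [QuotientGroup.ker_mk', range_subtype])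
    by_cases hp' : (Nat.card (G ⧸ N)).Coprime p
    · -- the quotient is a `p'`-group
      obtain ⟨P⟩ : Nonempty (Sylow p N) := inferInstance
      set PG := (P : Subgroup N).map N.subtype
      have hfr : normalizer (PG : Set G) ⊔ N = ⊤ := Sylow.normalizer_sup_eq_top P
      have hmap : ∀ x : G ⧸ N, ∃ g ∈ normalizer (PG : Set G), f g = x := by
        intro x
        obtain ⟨g, rfl⟩ := hf x
        obtain ⟨a, ha, b, hb, rfl⟩ := (CfsgLib.Solvable.mem_sup_of_le_normalizer
          (le_normalizer_of_normal : normalizer (PG : Set G) ≤ normalizer (N : Set G))).1 (hfr ▸ mem_top g)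
        exact ⟨a, ha, by rw [map_mul, show f b = 1 from (QuotientGroup.eq_one_iff b).2 hb, mul_one]⟩
      by_cases hNP : normalizer (PG : Set G) = ⊤
      · haveI : PG.Normal := normalizer_eq_top_iff.1 hNP
        have hidx : ¬ p ∣ PG.index := by
          rw [← relIndex_mul_index (map_subtype_le (P : Subgroup N)), relIndex, ← comap_subtype,
            comap_map_eq_self_of_injective N.subtype_injective]
          intro hd
          rcases hp.out.dvd_mul.1 hd with h1 | h1
          · exact P.not_dvd_index h1
          · exact hp.out.coprime_iff_not_dvd.1 hp'.symm (index_eq_card N ▸ h1)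
        obtain ⟨k, hk⟩ := IsPGroup.iff_card.1 (P.2.map N.subtype)
        obtain ⟨H, hH⟩ := exists_right_complement'_of_coprime (N := PG)
          (hk ▸ ((hp.out.coprime_iff_not_dvd.2 hidx).pow_left k))
        have hHc : (Nat.card H).Coprime p := by
          rw [← hH.symm.index_eq_card]
          exact (hp.out.coprime_iff_not_dvd.2 hidx).symm
        haveI := (h H hHc).1
        letI : CommGroup H := { (inferInstance : Group H) with
          mul_comm := fun a b => (IsMulCommutative.is_comm.comm a b) }
        refine Group.isSolvable_of_surjective (f := f.comp H.subtype) fun x => ?_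
        obtain ⟨g, rfl⟩ := hf x
        obtain ⟨⟨a, b⟩, hab' : (a : G) * b = g⟩ := hH.2 g
        refine ⟨b, ?_⟩
        rw [← hab', map_mul, show f a = 1 from (QuotientGroup.eq_one_iff (a : G)).2 (map_subtype_le _ a.2), one_mul]
        rfl
      · haveI := hsub _ hNP
        refine Group.isSolvable_of_surjective (f := f.comp (normalizer (PG : Set G)).subtype) fun x => ?_
        obtain ⟨g, hg, hgx⟩ := hmap x
        exact ⟨⟨g, hg⟩, hgx⟩
    · refine ih _ (CfsgLib.Solvable.card_quotient_lt hN0) (G ⧸ N) rfl fun K hK => ?_
      refine h.of_image f hf hK (hsub _ fun htop => hp' ?_)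
      have hK' : K = ⊤ := by
        rw [← map_comap_eq_self_of_surjective hf K, htop, map_top_of_surjective f hf]
      rwa [hK', card_top] at hK

theorem solvable {G : Type u} [Group G] [Finite G] (p : ℕ) [Fact p.Prime] (h : Hyp p G) : Group.IsSolvable G :=
  solvable_aux p _ G rfl h

end CfsgLib.PPrimeAb
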