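import Cfsg.Agent.PPrimeAbelian.Basic
import Cfsg.Agent.OddLocal.SigmaCompl
import Cfsg.Agent.OddLocal.CoprimeSupplement
import Cfsg.Agent.S1403
import Cfsg.Agent.S1410
import Cfsg.Agent.S1411
import Cfsg.Agent.S1420
import Cfsg.Agent.S1427
import Mathlib.GroupTheory.Transfer

/-!
A minimal simple group of odd order has a subgroup of order prime to `p` that is non-abelian or of
exponent not dividing `p - 1`: local structure of the maximal subgroups.
-/

set_option autoImplicit false
set_option linter.style.haveILetI false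
set_option linter.unusedSectionVars false

namespace CfsgLib.PPrimeAb

open Subgroup CfsgLib.OddLocal
open scoped commutatorElement

universe u

variable {G : Type u} [Group G] [Finite G] {p : ℕ} [hp : Fact p.Prime]
theorem le_normalizer_of_le_centralizer' {K : Subgroup G} {x : G} (h : ∀ y ∈ K, y * x = x * y) :
    x ∈ normalizer (K : Set G) :=
  centralizer_le_normalizer _ (mem_centralizer_iff.2 h)

variable (c : Ctx p G) (hodd : Odd (Nat.card G))
include c hodd

theorem Ctx.minOdd : Cfsg.IsMinSimpleOddOrder G := ⟨hodd, c.hmin⟩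

theorem Ctx.p_ne_two : p ≠ 2 := by have := c.hp5; omega

/-- A Sylow subgroup for `q ≠ p` lies in exactly one maximal subgroup. -/
theorem Ctx.sylow_unique {q : ℕ} [hq : Fact q.Prime] (hqp : q ≠ p) (hd : q ∣ Nat.card G) (Q : Sylow q G) :
    Cfsg.InUniqueMaximal (Q : Subgroup G) := by
  obtain ⟨V, hVQ, hV, hmax⟩ := exists_omega (q := q) (c.hyp _ (coprime_of_isPGroup (p := p) hqp Q.2)).1
  have h3 := c.card_omega hqp hd Q hVQ hV hmax
  have hno : ∀ k : ℕ, k ≤ 2 → ¬ Cfsg.RankLE k (Q : Subgroup G) := fun k hk h => by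
    have h1 := Uniq.rankLE_elementary (h q hq.out) hVQ hV
    exact absurd (h3.trans h1) (not_le.2 (Nat.pow_lt_pow_right hq.out.one_lt (by omega)))
  exact Cfsg.Agent.S1403.result (c.minOdd hodd) _ (c.ne_top_of_isPGroup Q.2) (hno 1 (by omega))
    (Or.inl (hno 2 le_rfl))

theorem Ctx.sylow_ne_bot {q : ℕ} [Fact q.Prime] (hd : q ∣ Nat.card G) (Q : Sylow q G) :
    (Q : Subgroup G) ≠ ⊥ := Q.ne_bot_of_dvd_card hd

/-- The Sylow subgroups for `q ≠ p` lie in the `p'`-core of their maximal subgroup. -/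
theorem Ctx.sylow_le_core {q : ℕ} [hq : Fact q.Prime] (hqp : q ≠ p) (hd : q ∣ Nat.card G) (Q : Sylow q G)
    {M : Subgroup G} (hM : IsCoatom M) (hQM : (Q : Subgroup G) ≤ M) :
    (Q : Subgroup G) ≤ core p M := by
  have hG := c.minOdd hodd
  haveI : Group.IsSolvable M := c.solvable hM.1
  obtain ⟨S⟩ : Nonempty (Sylow p M) := inferInstance
  obtain ⟨O, hO, hOc, hOS, hall⟩ :=
    Supp.exists_data (Cfsg.Agent.S1410.result hG p M hM.1) S
  -- an abelian supplement of `O ⊔ S`
  obtain ⟨H, h1, h2, -⟩ := CfsgLib.Hall.hall_pi (G := M) (fun r => r ≠ p)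
  have hHc : (Nat.card H).Coprime p :=
    (hp.out.coprime_iff_not_dvd.2 fun h => h1 p hp.out h rfl).symm
  haveI := hOS
  have hsup : H ⊔ (O ⊔ (S : Subgroup M)) = ⊤ := by
    rw [← index_eq_one]
    by_contra hne
    obtain ⟨r, hr, hrd⟩ := Nat.exists_prime_and_dvd hne
    have hrp : r = p := not_not.1 (h2 r hr (hrd.trans (index_dvd_of_le le_sup_left)))
    subst hrp
    exact S.not_dvd_index (hrd.trans (index_dvd_of_le (le_sup_right.trans le_sup_right)))
  have hHcomm : IsMulCommutative H := ((c.hyp.subgroup M) H hHc).1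
  have hderM : commutator M ≤ O ⊔ (S : Subgroup M) := by
    set f := QuotientGroup.mk' (O ⊔ (S : Subgroup M))
    have hsurj : ∀ y : M ⧸ (O ⊔ (S : Subgroup M)), ∃ h ∈ H, f h = y := by
      intro y
      obtain ⟨m, rfl⟩ := QuotientGroup.mk'_surjective (O ⊔ (S : Subgroup M)) y
      obtain ⟨h, hh, n, hn, rfl⟩ := (CfsgLib.Solvable.mem_sup_of_le_normalizer
        (le_normalizer_of_normal : H ≤ normalizer ((O ⊔ (S : Subgroup M) : Subgroup M) : Set M))).1
        (hsup ▸ mem_top m)
      exact ⟨h, hh, by rw [map_mul, show f n = 1 from (QuotientGroup.eq_one_iff n).2 hn, mul_one]⟩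
    refine (Subgroup.commutator_le (H₁ := ⊤) (H₂ := ⊤)).2 fun a _ b _ => ?_
    refine (QuotientGroup.eq_one_iff _).1 ?_
    show f ⁅a, b⁆ = 1
    rw [map_commutatorElement, commutatorElement_eq_one_iff_mul_comm]
    obtain ⟨u, hu, hua⟩ := hsurj (f a)
    obtain ⟨v, hv, hvb⟩ := hsurj (f b)
    rw [← hua, ← hvb, ← map_mul, ← map_mul]
    haveI := hHcomm
    rw [setLike_mul_comm hu hv]
  have hQd : (Q : Subgroup G) ≤ ⁅M, M⁆ := by
    have hN : normalizer ((Q : Subgroup G) : Set G) ≤ M := Uniq.le_of_uniq (c.sylow_unique hodd hqp hd Q) hM hQM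
      (c.normalizer_ne_top (c.sylow_ne_bot hodd hd Q) (c.ne_top_of_isPGroup Q.2)) le_normalizer
    obtain ⟨V, hVN, hVc, hVs⟩ := CfsgLib.TransferBasic.exists_normalizer_complement Q
    have hinf : (Q : Subgroup G) ⊓ V = ⊥ := inf_eq_bot_of_coprime hVc.symm
    have hcompl : Cfsg.IsComplIn (Q : Subgroup G) V (normalizer ((Q : Subgroup G) : Set G)) := by
      refine ⟨le_normalizer, hVN, hinf, fun m hm => ?_⟩
      rw [← hVs, sup_comm, CfsgLib.Solvable.mem_sup_of_le_normalizer hVN] at hm
      obtain ⟨v, hv, x, hx, rfl⟩ := hm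
      exact ⟨v * x * v⁻¹, (mem_normalizer_iff.1 (hVN hv) x).1 hx, v, hv, by group⟩
    exact (Cfsg.Agent.S1411.result hG q Q V hcompl).2.trans (commutator_mono hN hN)
  rw [← map_subtype_commutator] at hQd
  have hQO : (Q : Subgroup G) ≤ O.map M.subtype := by
    intro y hy
    obtain ⟨w, hw, rfl⟩ := hQd hy
    refine ⟨w, ?_, rfl⟩
    have hwOS := hderM hw
    obtain ⟨j, hj⟩ := IsPGroup.iff_card.1 Q.2
    have hwq : orderOf w ∣ q ^ j := by
      rw [← orderOf_coe, ← hj]; exact (Q : Subgroup G).orderOf_dvd_natCard hy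
    obtain ⟨k, hk⟩ := IsPGroup.iff_card.1 S.2
    have hSi : O.relIndex (O ⊔ (S : Subgroup M)) ∣ p ^ k := by
      haveI := hO
      rw [sup_comm, relIndex_sup_right, ← hk]
      exact relIndex_dvd_card _ _
    haveI := hO
    have hpow : w ^ O.relIndex (O ⊔ (S : Subgroup M)) ∈ O := by
      have := pow_index_mem (O.subgroupOf (O ⊔ (S : Subgroup M))) ⟨w, hwOS⟩
      simpa [relIndex, mem_subgroupOf] using this
    exact mem_of_pow_mem ((((Nat.coprime_primes hp.out hq.out).2 (Ne.symm hqp)).pow k j).coprime_dvd_left hSi)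
      hpow (by rw [orderOf_dvd_iff_pow_eq_one.1 hwq]; exact one_mem _)
  refine hQO.trans (le_core (map_subtype_le O) ?_ ?_)
  · exact (normal_subgroupOf_iff_le_normalizer (map_subtype_le O)).1 (by
      rw [← comap_subtype, comap_map_eq_self_of_injective M.subtype_injective]; exact hO)
  · rwa [card_map_of_injective M.subtype_injective]

/-- Every prime of the `p'`-core of a maximal subgroup has a Sylow subgroup of `G` inside the core. -/
theorem Ctx.core_sylow {M : Subgroup G} (hM : IsCoatom M) {r : ℕ} [hr : Fact r.Prime]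
    (hrd : r ∣ Nat.card (core p M)) :
    r ≠ p ∧ r ∣ Nat.card G ∧ ∃ R : Sylow r G, (R : Subgroup G) ≤ core p M := by
  have hrp : r ≠ p := fun h => hp.out.coprime_iff_not_dvd.1 (coprime_core M).symm (h ▸ hrd)
  have hrG : r ∣ Nat.card G := hrd.trans (card_subgroup_dvd_card _)
  refine ⟨hrp, hrG, ?_⟩
  obtain ⟨K, hKW, hK, hKmax⟩ := exists_omega (q := r) (c.hyp _ (coprime_core M)).1
  obtain ⟨y, hy⟩ := exists_prime_orderOf_dvd_card' r hrd
  have hyK : (y : G) ∈ K := hKmax _ y.2 (by rw [← hy, ← orderOf_coe, pow_orderOf_eq_one])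
  have hK1 : K ≠ ⊥ := fun h => by
    rw [h, mem_bot, ← orderOf_eq_one_iff, orderOf_coe, hy] at hyK
    exact hr.out.ne_one hyK
  have hNK : normalizer (K : Set G) = M := Uniq.coatom_normalizer_eq (c.minOdd hodd) hM
    (hKW.trans (core_le M)) ((le_normalizer_core M).trans (omega_normalizer hKW hK hKmax)) hK1
  obtain ⟨R, hR⟩ := (CfsgLib.Signalizer.isPGroup hK).exists_le_sylow
  have hRM : (R : Subgroup G) ≤ M := by
    rw [← hNK]
    intro x hx
    exact le_normalizer_of_le_centralizer' (fun y hy => c.hyp.comm (coprime_of_isPGroup hrp R.2) (hR hy) hx)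
  exact ⟨R, c.sylow_le_core hodd hrp hrG R hM hRM⟩

/-- The centralizer of a nontrivial element of the core lies in the maximal subgroup. -/
theorem Ctx.centralizer_le {M : Subgroup G} (hM : IsCoatom M) {y : G} (hy : y ∈ core p M) (hy1 : y ≠ 1) :
    centralizer ({y} : Set G) ≤ M := by
  have hW : core p M ≠ ⊥ := fun h => hy1 (by rwa [h, mem_bot] at hy)
  obtain ⟨r, hr, hrd⟩ := Nat.exists_prime_and_dvd (fun h => hW (card_eq_one.1 h))
  haveI := Fact.mk hr
  obtain ⟨hrp, hrG, R, hR⟩ := c.core_sylow hodd hM hrd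
  exact Uniq.le_of_uniq (c.sylow_unique hodd hrp hrG R) hM (hR.trans (core_le M))
    (c.centralizer_ne_top hy1) fun x hx => mem_centralizer_singleton_iff.2
      (c.hyp.comm (coprime_core M) (hR hx) hy)

/-- Two cores of maximal subgroups meeting nontrivially are equal. -/
theorem Ctx.eq_of_mem {A B : Subgroup G} (hA : IsCoatom A) (hB : IsCoatom B) {u : G}
    (huA : u ∈ core p A) (huB : u ∈ core p B) (hu : u ≠ 1) : A = B := by
  have hW : core p A ≠ ⊥ := fun h => hu (by rwa [h, mem_bot] at huA)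
  obtain ⟨r, hr, hrd⟩ := Nat.exists_prime_and_dvd (fun h => hW (card_eq_one.1 h))
  haveI := Fact.mk hr
  obtain ⟨hrp, hrG, R, hR⟩ := c.core_sylow hodd hA hrd
  refine Uniq.eq_of (c.sylow_unique hodd hrp hrG R) hA (hR.trans (core_le A)) hB fun x hx => ?_
  exact c.centralizer_le hodd hB huB hu
    (mem_centralizer_singleton_iff.2 (c.hyp.comm (coprime_core A) (hR hx) huA))

/-- The index of a nontrivial core in its maximal subgroup has no prime but `p`. -/
theorem Ctx.not_dvd_relIndex {M : Subgroup G} (hM : IsCoatom M) (hW : core p M ≠ ⊥) {q : ℕ}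
    [hq : Fact q.Prime] (hqp : q ≠ p) : ¬ q ∣ (core p M).relIndex M := by
  intro hd
  have hdM : q ∣ Nat.card M := hd.trans (relIndex_dvd_card _ _)
  have hdG : q ∣ Nat.card G := hdM.trans (card_subgroup_dvd_card M)
  obtain ⟨z, hz⟩ := exists_prime_orderOf_dvd_card' q hdM
  rw [← orderOf_coe] at hz
  obtain ⟨r, hr, hrd⟩ := Nat.exists_prime_and_dvd (fun h => hW (card_eq_one.1 h))
  haveI := Fact.mk hr
  obtain ⟨hrp, hrG, R, hR⟩ := c.core_sylow hodd hM hrd
  have hzc : (z : G) ∈ centralizer (core p M : Set G) :=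
    c.hyp.centralizes (coprime_core M) (le_normalizer_core M z.2)
      (by rw [hz]; exact (Nat.coprime_primes hq.out hp.out).2 hqp)
  have hz1 : (z : G) ≠ 1 := fun h => hq.out.ne_one (by rw [← hz, h, orderOf_one])
  have hCz : centralizer ({(z : G)} : Set G) ≤ M := Uniq.le_of_uniq (c.sylow_unique hodd hrp hrG R) hM
    (hR.trans (core_le M)) (c.centralizer_ne_top hz1) fun x hx =>
      mem_centralizer_singleton_iff.2 (mem_centralizer_iff.1 hzc x (hR hx))
  obtain ⟨Q, hQ⟩ := (IsPGroup.of_card (n := 1) (by rw [Nat.card_zpowers, hz, pow_one]) :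
    IsPGroup q (zpowers (z : G))).exists_le_sylow
  have hQM : (Q : Subgroup G) ≤ M := fun x hx => hCz (mem_centralizer_singleton_iff.2
    (c.hyp.comm (coprime_of_isPGroup hqp Q.2) hx (hQ (mem_zpowers _))))
  refine Q.not_dvd_index (dvd_trans ?_ (index_dvd_of_le (c.sylow_le_core hodd hqp hdG Q hM hQM)))
  exact hd.trans (Dvd.intro _ (relIndex_mul_index (core_le M)))

/-- An element of order prime to `p` of a maximal subgroup lies in its nontrivial core. -/
theorem Ctx.mem_core {M : Subgroup G} (hM : IsCoatom M) (hW : core p M ≠ ⊥) {z : G} (hz : z ∈ M)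
    (ho : (orderOf z).Coprime p) : z ∈ core p M := by
  haveI : ((core p M).subgroupOf M).Normal :=
    (normal_subgroupOf_iff_le_normalizer (core_le M)).2 (le_normalizer_core M)
  have hpow : z ^ (core p M).relIndex M ∈ core p M := by
    have := pow_index_mem ((core p M).subgroupOf M) ⟨z, hz⟩
    simpa [relIndex, mem_subgroupOf] using this
  refine mem_of_pow_mem (b := orderOf z) ?_ hpow (by rw [pow_orderOf_eq_one]; exact one_mem _)
  refine Nat.coprime_of_dvd fun q hq h1 h2 => ?_
  haveI := Fact.mk hq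
  exact c.not_dvd_relIndex hodd hM hW (q := q)
    (fun e => hp.out.coprime_iff_not_dvd.1 ho.symm (e ▸ h2)) h1

/-- `p` divides the order of `M`, lies outside `σ(M)`, and `M_σ` is the core. -/
theorem Ctx.sigma_facts {M : Subgroup G} (hM : IsCoatom M) (hW : core p M ≠ ⊥) :
    p ∣ Nat.card M ∧ p ∉ Cfsg.sigma M ∧ Cfsg.sigmaCore M = core p M := by
  have hG := c.minOdd hodd
  haveI : Group.IsSolvable M := c.solvable hM.1
  obtain ⟨hhall, -, hder⟩ := Sig.sigma_core hG hM
  have hother : ∀ q : ℕ, q.Prime → q ∣ Nat.card M → q ≠ p → q ∈ Cfsg.sigma M := by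
    intro q hq hd hqp
    haveI := Fact.mk hq
    have hdW : q ∣ Nat.card (core p M) := by
      have e := card_mul_index ((core p M).subgroupOf M)
      rw [Nat.card_congr (subgroupOfEquivOfLe (core_le M)).toEquiv] at e
      exact (hq.dvd_mul.1 (e.symm ▸ hd)).resolve_right (c.not_dvd_relIndex hodd hM hW hqp)
    obtain ⟨-, hdG, R, hR⟩ := c.core_sylow hodd hM hdW
    refine ⟨hq, hd, R.subtype (hR.trans (core_le M)), ?_⟩
    rw [Sylow.coe_subtype, map_subgroupOf_eq_of_le (hR.trans (core_le M))]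
    exact Uniq.le_of_uniq (c.sylow_unique hodd hqp hdG R) hM (hR.trans (core_le M))
      (c.normalizer_ne_top (c.sylow_ne_bot hodd hdG R) (c.ne_top_of_isPGroup R.2)) le_normalizer
  have hbad : ¬ ∀ q : ℕ, q.Prime → q ∣ Nat.card M → q ∈ Cfsg.sigma M := by
    intro hall
    have htop : M ≤ Cfsg.sigmaCore M := relIndex_eq_one.1 (by
      by_contra hne
      obtain ⟨q, hq, hqd⟩ := Nat.exists_prime_and_dvd hne
      exact hhall.2.2 q hq (hall q hq (hqd.trans (relIndex_dvd_card _ _))) hqd)
    haveI : Nontrivial M := (nontrivial_iff_ne_bot M).2 fun h => hW (le_bot_iff.1 (h ▸ core_le M))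
    have hlt := Group.IsSolvable.commutator_lt_top_of_nontrivial M
    rw [← map_subtype_lt_map_subtype, map_subtype_commutator, ← MonoidHom.range_eq_map, range_subtype] at hlt
    exact hlt.not_ge (htop.trans hder)
  have hpM : p ∣ Nat.card M := by
    by_contra h
    exact hbad fun q hq hd => hother q hq hd fun e => h (e ▸ hd)
  have hpσ : p ∉ Cfsg.sigma M := fun h => hbad fun q hq hd => by
    by_cases e : q = p
    · exact e ▸ h
    · exact hother q hq hd e
  refine ⟨hpM, hpσ, le_antisymm (le_core hhall.1 (TH.le_normalizer_core M) ?_) ?_⟩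
  · refine (hp.out.coprime_iff_not_dvd.2 fun h => hpσ (hhall.2.1 p hp.out h)).symm
  · rw [← map_subgroupOf_eq_of_le (core_le M)]
    refine map_mono (le_sSup ⟨(normal_subgroupOf_iff_le_normalizer (core_le M)).2 (le_normalizer_core M),
      fun q hq hd => ?_⟩)
    rw [Nat.card_congr (subgroupOfEquivOfLe (core_le M)).toEquiv] at hd
    exact hother q hq (hd.trans (card_dvd_of_le (core_le M)))
      fun e => hp.out.coprime_iff_not_dvd.1 (coprime_core M).symm (e ▸ hd)

/-- A Sylow `p`-subgroup of `M` complements `M_σ`, and centralizes no nontrivial element of the core. -/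
theorem Ctx.compl {M : Subgroup G} (hM : IsCoatom M) (hW : core p M ≠ ⊥) (S : Sylow p M) :
    Cfsg.IsComplIn ((S : Subgroup M).map M.subtype) (Cfsg.sigmaCore M) M ∧
      Nat.card (core p M) * Nat.card (S : Subgroup M) = Nat.card M ∧
      ∀ w ∈ core p M, (∀ r ∈ (S : Subgroup M).map M.subtype, r * w = w * r) → w = 1 := by
  obtain ⟨-, hpσ, hσ⟩ := c.sigma_facts hodd hM hW
  haveI : ((core p M).subgroupOf M).Normal :=
    (normal_subgroupOf_iff_le_normalizer (core_le M)).2 (le_normalizer_core M)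
  set W' := (core p M).subgroupOf M
  have hW'c : Nat.card W' = Nat.card (core p M) := Nat.card_congr (subgroupOfEquivOfLe (core_le M)).toEquiv
  obtain ⟨k, hk⟩ := IsPGroup.iff_card.1 S.2
  have hcop : (Nat.card (S : Subgroup M)).Coprime (Nat.card W') := by
    rw [hk, hW'c]; exact ((coprime_core M).symm).pow_left k
  have hdis : (S : Subgroup M) ⊓ W' = ⊥ := inf_eq_bot_of_coprime hcop
  have hsup : (S : Subgroup M) ⊔ W' = ⊤ := by
    rw [← index_eq_one]
    by_contra hne
    obtain ⟨q, hq, hqd⟩ := Nat.exists_prime_and_dvd hne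
    haveI := Fact.mk hq
    by_cases hqp : q = p
    · subst hqp
      exact S.not_dvd_index (hqd.trans (index_dvd_of_le le_sup_left))
    · exact c.not_dvd_relIndex hodd hM hW hqp (hqd.trans (index_dvd_of_le le_sup_right))
  have hcard : Nat.card (core p M) * Nat.card (S : Subgroup M) = Nat.card M := by
    have := CfsgLib.Solvable.card_sup_of_disjoint (le_normalizer_of_normal : (S : Subgroup M) ≤ _) hdis
    rw [hsup, card_top, hW'c] at this
    rw [this, mul_comm]
  refine ⟨⟨map_subtype_le _, hσ ▸ core_le M, ?_, fun m hm => ?_⟩, hcard, fun w hw hfix => ?_⟩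
  · rw [hσ, ← map_subgroupOf_eq_of_le (core_le M), ← map_inf _ _ _ M.subtype_injective, hdis, Subgroup.map_bot]
  · obtain ⟨a, ha, b, hb, hab⟩ := (CfsgLib.Solvable.mem_sup_of_le_normalizer
      (le_normalizer_of_normal : (S : Subgroup M) ≤ normalizer (W' : Set M))).1 (hsup ▸ mem_top (⟨m, hm⟩ : M))
    exact ⟨a, mem_map_of_mem _ ha, b, hσ ▸ hb, (congrArg Subtype.val hab).symm⟩
  · -- transfer into the abelian core
    haveI : IsMulCommutative W' := by
      refine ⟨⟨fun a b => Subtype.ext (Subtype.ext ?_)⟩⟩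
      exact c.hyp.comm (coprime_core M) (mem_subgroupOf.1 a.2) (mem_subgroupOf.1 b.2)
    letI : CommGroup W' := { (inferInstance : Group W') with mul_comm := fun a b => (IsMulCommutative.is_comm.comm a b) }
    set τ : M →* W' := MonoidHom.transfer (MonoidHom.id W')
    let w' : M := ⟨w, core_le M hw⟩
    have hcen : ∀ g : M, g * w' = w' * g := by
      intro g
      obtain ⟨a, ha, b, hb, rfl⟩ := (CfsgLib.Solvable.mem_sup_of_le_normalizer
        (le_normalizer_of_normal : (S : Subgroup M) ≤ normalizer (W' : Set M))).1 (hsup ▸ mem_top g)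
      have h1 : a * w' = w' * a := Subtype.ext (hfix _ (mem_map_of_mem _ ha))
      have h2 : b * w' = w' * b := Subtype.ext (c.hyp.comm (coprime_core M) (mem_subgroupOf.1 hb) hw)
      rw [mul_assoc, h2, ← mul_assoc, h1, mul_assoc]
    have hkey : ∀ (j : ℕ) (g₀ : M), g₀⁻¹ * w' ^ j * g₀ ∈ W' → g₀⁻¹ * w' ^ j * g₀ = w' ^ j := by
      intro j g₀ _
      have hcj : g₀ * w' ^ j = w' ^ j * g₀ := ((show Commute g₀ w' from hcen g₀).pow_right j).eq
      rw [mul_assoc, ← hcj, inv_mul_cancel_left]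
    have hval := MonoidHom.transfer_eq_pow (MonoidHom.id W') w' hkey
    have hder : w' ∈ commutator M := by
      have h := (Sig.sigma_core (c.minOdd hodd) hM).2.2 (hσ.symm ▸ hw)
      rw [← map_subtype_commutator] at h
      obtain ⟨x, hx, hxw⟩ := h
      rwa [show w' = x from Subtype.ext hxw.symm]
    have hone : τ w' = 1 := MonoidHom.mem_ker.1 (Abelianization.commutator_subset_ker τ hder)
    have hpow : w' ^ W'.index = 1 := by
      have := congrArg Subtype.val (hval.symm.trans hone)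
      simpa using this
    have hidx : W'.index = Nat.card (S : Subgroup M) := by
      refine Nat.eq_of_mul_eq_mul_left (Nat.card_pos (α := W')) ?_
      rw [card_mul_index, hW'c, hcard]
    have hw' : w' = 1 := by
      refine orderOf_eq_one_iff.1 (Nat.eq_one_of_dvd_coprimes hcop
        (hidx ▸ orderOf_dvd_of_pow_eq_one hpow) (W'.orderOf_dvd_natCard (mem_subgroupOf.2 hw)))
    exact congrArg Subtype.val hw'

/-- An element of order `p` of `M` with a fixed point in the core has its centralizer in `M`. -/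
theorem Ctx.centralizer_le_of_fixed {M : Subgroup G} (hM : IsCoatom M) (hW : core p M ≠ ⊥) {x w : G}
    (hx : x ∈ M) (hxo : orderOf x = p) (hw : w ∈ core p M) (hw1 : w ≠ 1) (hxw : x * w = w * x) :
    centralizer ({x} : Set G) ≤ M := by
  have hG := c.minOdd hodd
  obtain ⟨hpM, hpσ, hσ⟩ := c.sigma_facts hodd hM hW
  have hzp : IsPGroup p (zpowers (⟨x, hx⟩ : M)) := IsPGroup.of_card (n := 1) (by
    rw [Nat.card_zpowers, orderOf_mk, hxo, pow_one])
  obtain ⟨S, hS⟩ := hzp.exists_le_sylow
  obtain ⟨hE, -, hfix⟩ := c.compl hodd hM hW S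
  set R := (S : Subgroup M).map M.subtype
  have hxR : x ∈ R := ⟨⟨x, hx⟩, hS (mem_zpowers _), rfl⟩
  have hx1 : x ≠ 1 := fun h => hp.out.ne_one (by rw [← hxo, h, orderOf_one])
  have hr2 : Cfsg.PRankLE p 2 M := by
    by_contra h
    exact hpσ (Sig.alpha_subset_sigma hG hM ⟨hp.out, h⟩)
  by_cases hr1 : Cfsg.PRankLE p 1 M
  · have hRp : IsPGroup p R := S.2.map _
    have hRc : IsCyclic R := Compl.cyclic_of_rank_one (c.p_ne_two hodd) hRp (Uniq.rankLE_mono hE.1 hr1)
    obtain ⟨T⟩ : Nonempty (Sylow p R) := inferInstance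
    have hTtop : (T : Subgroup R) = ⊤ := (T.is_maximal' (Q := ⊤) (hRp.to_subgroup ⊤) le_top).symm
    have hTmap : (T : Subgroup R).map R.subtype = R := by
      rw [hTtop, ← MonoidHom.range_eq_map, range_subtype]
    haveI := hRc
    have h := Cfsg.Agent.S1427.result hG M hM R hE p T (fun hb => hx1 (by
        rw [hb, Subgroup.map_bot] at hTmap
        rw [← hTmap, mem_bot] at hxR
        exact hxR)) (by rw [hTtop]; infer_instance) x (hTmap.symm ▸ hxR) hx1
    rw [hTmap] at h
    have hmem : w ∈ Cfsg.sigmaCore M ⊓ centralizer (R : Set G) := h ▸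
      mem_inf.2 ⟨hσ.symm ▸ hw, mem_centralizer_singleton_iff.2 hxw.symm⟩
    exact absurd (hfix w hw fun r hr => mem_centralizer_iff.1 hmem.2 r hr) hw1
  · refine ((Cfsg.Agent.S1420.result hG M hM R hE).2.2.2 x hx hx1 (fun q hq hqd => ?_)
      ⟨hx, w, hσ.symm ▸ hw, hw1, hxw⟩).1
    rw [hxo, Nat.prime_dvd_prime_iff_eq hq hp.out] at hqd
    subst hqd
    exact ⟨hp.out, hpσ, hr2, hr1⟩

end CfsgLib.PPrimeAb
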