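import Cfsg.Agent.PPrimeAbelian.Odd
import Mathlib.Algebra.Order.BigOperators.Group.Finset

/-!
A minimal simple group of odd order has a subgroup of order prime to `p` that is non-abelian or of
exponent not dividing `p - 1`: the elements that are not `p`-elements are too few.
-/

set_option autoImplicit false
set_option linter.style.haveILetI false
set_option linter.unusedSectionVars false

namespace CfsgLib.PPrimeAb

open Subgroup CfsgLib.OddLocal

universe u

variable {G : Type u} [Group G] [Finite G] {p : ℕ} [hp : Fact p.Prime]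

/-- The elements of `R` with a nontrivial fixed point in the core of `M`. -/
def fixSet (p : ℕ) (M R : Subgroup G) : Set G := {r | r ∈ R ∧ ∃ w ∈ core p M, w ≠ 1 ∧ r * w = w * r}

theorem one_mem_fixSet {M R : Subgroup G} (hW : core p M ≠ ⊥) : (1 : G) ∈ fixSet p M R := by
  obtain ⟨w, hw, hw1⟩ := (bot_or_exists_ne_one _).resolve_left hW
  exact ⟨one_mem _, w, hw, hw1, by simp⟩

/-- The number of nontrivial elements of a finite set containing the identity. -/
theorem card_ne_one {S : Set G} (h : (1 : G) ∈ S) : Nat.card {x : G // x ∈ S ∧ x ≠ 1} + 1 = Nat.card S := by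
  rw [show Nat.card {x : G // x ∈ S ∧ x ≠ 1} = (S \ {1}).ncard from Nat.card_coe_set_eq _,
    Nat.card_coe_set_eq, Set.ncard_sdiff_singleton_add_one h (Set.toFinite S)]

/-- The nontrivial `p`-elements. -/
def pElts (p : ℕ) (G : Type u) [Group G] : Set G := {g | g ≠ 1 ∧ ∃ k, orderOf g = p ^ k}

/-- The conjugates of `W F` by coset representatives of `M`. -/
def cover (p : ℕ) (M R : Subgroup G) : Set G :=
  Set.range fun a : (G ⧸ M) × (core p M) × (fixSet p M R) =>
    a.1.out * ((a.2.1 : G) * a.2.2) * a.1.out⁻¹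

theorem card_cover_le (M R : Subgroup G) :
    Nat.card (cover p M R) ≤ M.index * (Nat.card (core p M) * Nat.card (fixSet p M R)) := by
  rw [index, ← Nat.card_prod, ← Nat.card_prod]
  exact Nat.card_le_card_of_surjective _ Set.rangeFactorization_surjective

/-- There are at most `[G : N(P)] (|P| - 1)` nontrivial `p`-elements. -/
theorem card_pElts_le (P : Sylow p G) :
    (P : Subgroup G).relIndex (normalizer ((P : Subgroup G) : Set G)) * Nat.card (pElts p G) ≤ Nat.card G := by
  set N := normalizer ((P : Subgroup G) : Set G)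
  have hsub : pElts p G ⊆ Set.range fun a : (G ⧸ N) × {x : G // x ∈ ((P : Subgroup G) : Set G) ∧ x ≠ 1} =>
      a.1.out * (a.2 : G) * a.1.out⁻¹ := by
    rintro g ⟨hg1, k, hk⟩
    obtain ⟨S, hS⟩ := (IsPGroup.of_card (n := k) (by rw [Nat.card_zpowers, hk]) :
      IsPGroup p (zpowers g)).exists_le_sylow
    obtain ⟨a, ha⟩ := MulAction.exists_smul_eq G P S
    have hgS : g ∈ (P : Subgroup G).map (MulAut.conj a).toMonoidHom := by
      have := hS (mem_zpowers g)
      rwa [← ha, Sylow.coe_subgroup_smul] at this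
    rw [mem_map_conj] at hgS
    obtain ⟨n, hn⟩ := QuotientGroup.mk_out_eq_mul N a
    set b := (QuotientGroup.mk a : G ⧸ N).out
    refine ⟨(QuotientGroup.mk a, ⟨b⁻¹ * g * b, ?_, fun e => hg1 ?_⟩), by simp [b]; group⟩
    · rw [hn]
      have h := ((mem_normalizer_iff.1 (inv_mem n.2)) (a⁻¹ * g * a)).1 hgS
      simpa only [mul_assoc, mul_inv_rev, inv_inv, SetLike.mem_coe] using! h
    · calc g = b * (b⁻¹ * g * b) * b⁻¹ := by group
        _ = 1 := by rw [e]; group
  have h1 : Nat.card (pElts p G) ≤ N.index * Nat.card {x : G // x ∈ ((P : Subgroup G) : Set G) ∧ x ≠ 1} := by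
    rw [index, ← Nat.card_prod]
    exact (Nat.card_mono (Set.toFinite _) hsub).trans
      (Nat.card_le_card_of_surjective _ Set.rangeFactorization_surjective)
  have h2 : Nat.card {x : G // x ∈ ((P : Subgroup G) : Set G) ∧ x ≠ 1} ≤ Nat.card (P : Subgroup G) := by
    have := card_ne_one (S := ((P : Subgroup G) : Set G)) (one_mem _)
    have e : Nat.card ((P : Subgroup G) : Set G) = Nat.card (P : Subgroup G) := rfl
    omega
  calc (P : Subgroup G).relIndex N * Nat.card (pElts p G)
      ≤ (P : Subgroup G).relIndex N * (N.index * Nat.card (P : Subgroup G)) :=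
        Nat.mul_le_mul_left _ (h1.trans (Nat.mul_le_mul_left _ h2))
    _ = Nat.card (P : Subgroup G) * ((P : Subgroup G).relIndex N * N.index) := by ring
    _ = Nat.card G := by rw [relIndex_mul_index le_normalizer, card_mul_index]

variable (c : Ctx p G) (hodd : Odd (Nat.card G))
include c hodd

theorem Ctx.normalizer_coatom {M : Subgroup G} (hM : IsCoatom M) (hW : core p M ≠ ⊥) :
    normalizer (M : Set G) = M :=
  (hM.le_iff.1 le_normalizer).resolve_left
    (c.normalizer_ne_top (fun h => hW (le_bot_iff.1 (h ▸ core_le M))) hM.1)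

/-- An element that is not a `p`-element factors through `fixSet`. -/
theorem Ctx.factor {M : Subgroup G} (hM : IsCoatom M) (hW : core p M ≠ ⊥) (S : Sylow p M) {g : G}
    (hg : g ∈ M) (hgp : ¬ ∃ k, orderOf g = p ^ k) :
    ∃ w ∈ core p M, ∃ r ∈ fixSet p M ((S : Subgroup M).map M.subtype), g = w * r := by
  obtain ⟨hE, -, -⟩ := c.compl hodd hM hW S
  obtain ⟨-, -, hσ⟩ := c.sigma_facts hodd hM hW
  obtain ⟨a, ha, b, hb, rfl⟩ := hE.2.2.2 g hg
  rw [hσ] at hb
  set W := core p M
  have hconj : ∀ y ∈ W, a * y * a⁻¹ ∈ W := fun y hy =>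
    (mem_normalizer_iff.1 (le_normalizer_core M (hE.1 ha)) y).1 hy
  refine ⟨a * b * a⁻¹, hconj b hb, a, ?_, by group⟩
  by_contra hnF
  let φ : W → W := fun y => ⟨y * (a * (y : G)⁻¹ * a⁻¹), mul_mem y.2 (hconj _ (inv_mem y.2))⟩
  have hφ : Function.Injective φ := by
    intro y z h
    have h' : (y : G) * (a * (y : G)⁻¹ * a⁻¹) = z * (a * (z : G)⁻¹ * a⁻¹) := congrArg Subtype.val h
    by_contra hne
    refine hnF ⟨ha, (z : G)⁻¹ * y, mul_mem (inv_mem z.2) y.2,
      fun e => hne (Subtype.ext (inv_mul_eq_one.1 e).symm), ?_⟩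
    calc a * ((z : G)⁻¹ * y) = (z : G)⁻¹ * ((z : G) * (a * (z : G)⁻¹ * a⁻¹)) * (a * y) := by group
      _ = (z : G)⁻¹ * ((y : G) * (a * (y : G)⁻¹ * a⁻¹)) * (a * y) := by rw [h']
      _ = (z : G)⁻¹ * y * a := by group
  obtain ⟨y, hy⟩ := (Finite.injective_iff_surjective.1 hφ) ⟨a * b * a⁻¹, hconj b hb⟩
  have hy' : (y : G) * (a * (y : G)⁻¹ * a⁻¹) = a * b * a⁻¹ := congrArg Subtype.val hy
  apply hgp
  have hab : a * b = MulAut.conj (y : G) a := by
    calc a * b = a * b * a⁻¹ * a := by group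
      _ = (y : G) * (a * (y : G)⁻¹ * a⁻¹) * a := by rw [hy']
      _ = MulAut.conj (y : G) a := by simp [mul_assoc]
  rw [hab, MulEquiv.orderOf_eq]
  obtain ⟨k, hk⟩ := IsPGroup.iff_card.1 (S.2.map M.subtype)
  obtain ⟨i, -, hi⟩ := (Nat.dvd_prime_pow hp.out).1 (hk ▸ Subgroup.orderOf_dvd_natCard _ ha)
  exact ⟨i, hi⟩

/-- Conjugate nontrivial elements of two fixed sets give conjugate maximal subgroups. -/
theorem Ctx.separate {A B R S : Subgroup G} (hA : IsCoatom A) (hB : IsCoatom B) (hWA : core p A ≠ ⊥)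
    (hRA : R ≤ A) (hRp : IsPGroup p R) {g r s : G} (hr : r ∈ fixSet p A R) (hr1 : r ≠ 1)
    (hs : s ∈ fixSet p B S) (h : g * s * g⁻¹ = r) :
    B.map (MulAut.conj g).toMonoidHom = A := by
  obtain ⟨hrR, w, hw, hw1, hrw⟩ := hr
  obtain ⟨-, w', hw', hw1', hsw⟩ := hs
  obtain ⟨k, hk⟩ := IsPGroup.iff_card.1 hRp
  obtain ⟨i, -, hi⟩ := (Nat.dvd_prime_pow hp.out).1 (hk ▸ R.orderOf_dvd_natCard hrR)
  rcases i with _ | i
  · rw [pow_zero, orderOf_eq_one_iff] at hi
    exact absurd hi hr1
  set x := r ^ p ^ i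
  have hxo : orderOf x = p := by
    rw [orderOf_pow, hi, Nat.gcd_eq_right (pow_dvd_pow p (Nat.le_succ i)),
      Nat.pow_div (Nat.le_succ i) hp.out.pos, Nat.succ_sub (le_refl i), Nat.sub_self, pow_one]
  have hC := c.centralizer_le_of_fixed hodd hA hWA (pow_mem (hRA hrR) _) hxo hw hw1
    ((show Commute r w from hrw).pow_left _).eq
  set u := g * w' * g⁻¹
  have hux : u * x = x * u := by
    have hcs : Commute (s ^ p ^ i) w' := (show Commute s w' from hsw).pow_left _
    have hx' : x = g * s ^ p ^ i * g⁻¹ := by rw [← conj_pow, h]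
    rw [hx']
    calc g * w' * g⁻¹ * (g * s ^ p ^ i * g⁻¹) = g * (w' * s ^ p ^ i) * g⁻¹ := by group
      _ = g * (s ^ p ^ i * w') * g⁻¹ := by rw [hcs.eq]
      _ = g * s ^ p ^ i * g⁻¹ * (g * w' * g⁻¹) := by group
  have huA : u ∈ A := hC (mem_centralizer_singleton_iff.2 hux)
  have hu1 : u ≠ 1 := fun e => hw1' (conj_eq_one_iff.1 e)
  have huB : u ∈ core p (B.map (MulAut.conj g).toMonoidHom) :=
    core_conj_le B g ⟨w', hw', by simp [u]⟩
  have huo : (orderOf u).Coprime p := by
    rw [show u = MulAut.conj g w' from (by simp [u]), MulEquiv.orderOf_eq]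
    exact (coprime_core B).coprime_dvd_left ((core p B).orderOf_dvd_natCard hw')
  exact (c.eq_of_mem hodd hA (Uniq.coatom_conj hB g) (c.mem_core hodd hA hWA huA huo) huB hu1).symm

/-- The fixed sets of pairwise non-conjugate maximal subgroups in one `p`-subgroup `R`. -/
theorem Ctx.sum_fixSet_le (J : Finset ℕ) (M : ℕ → Subgroup G) (R : Subgroup G) (hRp : IsPGroup p R)
    (hM : ∀ j ∈ J, IsCoatom (M j)) (hW : ∀ j ∈ J, core p (M j) ≠ ⊥) (hR : ∀ j ∈ J, R ≤ M j)
    (hne : ∀ i ∈ J, ∀ j ∈ J, ∀ g : G, (M j).map (MulAut.conj g).toMonoidHom = M i → i = j)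
    {D : ℕ} (hD : ∀ j ∈ J, D ≤ (M j).relIndex (normalizer (R : Set G))) :
    D * ∑ j ∈ J, (Nat.card (fixSet p (M j) R) - 1) ≤ Nat.card R := by
  set N := normalizer (R : Set G)
  set F : ℕ → Type u := fun j => {x : G // x ∈ fixSet p (M j) R ∧ x ≠ 1}
  let α : Type u := Σ j : {j // j ∈ J}, (N ⧸ (M j).subgroupOf N) × F j
  let f : α → R := fun a => ⟨(a.2.1.out : G) * a.2.2.1 * (a.2.1.out : G)⁻¹,
    (mem_normalizer_iff.1 a.2.1.out.2 _).1 a.2.2.2.1.1⟩
  have hinj : Function.Injective f := by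
    rintro ⟨⟨i, hi⟩, a, r, hr, hr1⟩ ⟨⟨j, hj⟩, b, s, hs, hs1⟩ h
    have h' : (a.out : G) * r * (a.out : G)⁻¹ = (b.out : G) * s * (b.out : G)⁻¹ := congrArg Subtype.val h
    set g : G := (a.out : G)⁻¹ * b.out
    have hg : g * s * g⁻¹ = r := by
      calc g * s * g⁻¹ = (a.out : G)⁻¹ * ((b.out : G) * s * (b.out : G)⁻¹) * a.out := by simp [g, mul_assoc]
        _ = r := by rw [← h']; group
    have hconj := c.separate hodd (hM i hi) (hM j hj) (hW i hi) (hR i hi) hRp hr hr1 hs hg
    obtain rfl := hne i hi j hj g hconj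
    have hgM : g ∈ M i := by
      rw [← c.normalizer_coatom hodd (hM i hi) (hW i hi)]
      exact mem_normalizer_iff_map_conj_eq.2 hconj
    have hab : a = b := by
      rw [← QuotientGroup.out_eq' a, ← QuotientGroup.out_eq' b, QuotientGroup.eq, mem_subgroupOf]
      simpa [g] using hgM
    subst hab
    have : r = s := by simpa using h'
    subst this
    rfl
  refine le_trans ?_ (Nat.card_le_card_of_injective f hinj)
  rw [Nat.card_sigma, Finset.mul_sum, ← Finset.sum_coe_sort J]
  apply Finset.sum_le_sum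
  intro j _
  rw [Nat.card_prod]
  refine Nat.mul_le_mul (hD j j.2) ?_
  have := card_ne_one (one_mem_fixSet (R := R) (hW j j.2))
  show _ ≤ Nat.card {x : G // x ∈ fixSet p (M j) R ∧ x ≠ 1}
  omega

/-- The index of `P` in `M ∩ N(P)`, for a Sylow subgroup `P` of `G` inside `M`. -/
theorem Ctx.relIndex_normalizer {M : Subgroup G} (hM : IsCoatom M) (hW : core p M ≠ ⊥) (P : Sylow p G)
    (hPM : (P : Subgroup G) ≤ M) :
    M.relIndex (normalizer ((P : Subgroup G) : Set G)) =
      (P : Subgroup G).relIndex (normalizer ((P : Subgroup G) : Set G)) := by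
  obtain ⟨hE, -, hfix⟩ := c.compl hodd hM hW (P.subtype hPM)
  obtain ⟨-, -, hσ⟩ := c.sigma_facts hodd hM hW
  rw [Sylow.coe_subtype, map_subgroupOf_eq_of_le hPM] at hE hfix
  rw [← inf_relIndex_right]
  congr 1
  refine le_antisymm ?_ (le_inf hPM le_normalizer)
  rintro g ⟨hgM, hgN⟩
  obtain ⟨a, ha, b, hb, rfl⟩ := hE.2.2.2 g hgM
  rw [hσ] at hb
  have hbN : b ∈ normalizer ((P : Subgroup G) : Set G) := by
    have haN : a ∈ normalizer ((P : Subgroup G) : Set G) := Subgroup.le_normalizer ha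
    have := Subgroup.mul_mem _ (Subgroup.inv_mem _ haN) hgN
    simpa using this
  rw [hfix b hb fun r hr => ?_, mul_one]
  · exact ha
  have h1 : b * r * b⁻¹ * r⁻¹ ∈ (P : Subgroup G) ⊓ Cfsg.sigmaCore M := by
    refine mem_inf.2 ⟨mul_mem ((mem_normalizer_iff.1 hbN r).1 hr) (inv_mem hr), hσ.symm ▸ ?_⟩
    have := (mem_normalizer_iff.1 (le_normalizer_core M (hPM hr)) b⁻¹).1 (inv_mem hb)
    simpa [mul_assoc] using mul_mem hb this
  rw [hE.2.2.1, mem_bot, mul_inv_eq_one, mul_inv_eq_iff_eq_mul] at h1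
  exact h1.symm

/-- A Sylow subgroup of `M` that is not one of `G` has its normalizer well outside `M`. -/
theorem Ctx.le_relIndex {M : Subgroup G} (hidx : p ∣ M.index) (S : Sylow p M) :
    p ≤ M.relIndex (normalizer (((S : Subgroup M).map M.subtype : Subgroup G) : Set G)) := by
  set R := (S : Subgroup M).map M.subtype
  obtain ⟨T, hT⟩ := (S.2.map M.subtype : IsPGroup p R).exists_le_sylow
  have hne : R ≠ T := by
    intro h
    refine T.not_dvd_index (hidx.trans (index_dvd_of_le ?_))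
    rw [← h]; exact map_subtype_le _
  have hlt := CfsgLib.Fusion.lt_inf_normalizer T.2 (lt_of_le_of_ne hT hne)
  set U := (T : Subgroup G) ⊓ normalizer (R : Set G)
  have hUM : ¬ U ≤ M := by
    intro hUM
    refine hlt.ne ?_
    rw [← map_subgroupOf_eq_of_le hUM]
    exact congrArg (Subgroup.map M.subtype) (S.is_maximal' ((T.2.to_le inf_le_left).comap_subtype (K := M))
      fun x hx => hlt.le (mem_map_of_mem M.subtype hx)).symm
  refine le_trans ?_ (relIndex_le_of_le_right (inf_le_right : U ≤ normalizer (R : Set G))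
    (index_ne_zero_of_finite (H := M.subgroupOf _)))
  obtain ⟨k, hk⟩ := (T.2.to_le (inf_le_left : U ≤ _)).index (M.subgroupOf U)
  rcases k with _ | k
  · rw [pow_zero] at hk
    exact absurd (relIndex_eq_one.1 hk) hUM
  · rw [relIndex, hk]
    exact Nat.le_self_pow (Nat.succ_ne_zero k) p

theorem Ctx.false_of_odd : False := by
  classical
  have hG := c.minOdd hodd
  obtain ⟨P⟩ : Nonempty (Sylow p G) := inferInstance
  set π := (Nat.card G).primeFactors.erase p
  have hπ : ∀ q ∈ π, q.Prime ∧ q ≠ p ∧ q ∣ Nat.card G := fun q hq => by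
    rw [Finset.mem_erase, Nat.mem_primeFactors] at hq
    exact ⟨hq.2.1, hq.1, hq.2.2.1⟩
  -- a maximal subgroup for each prime
  have hchoice : ∀ q : ℕ, ∃ M : Subgroup G, q ∈ π →
      IsCoatom M ∧ core p M ≠ ⊥ ∧ (p ∣ M.index ∨ (P : Subgroup G) ≤ M) ∧
      ∃ (_ : Fact q.Prime) (Q : Sylow q G), (Q : Subgroup G) ≤ core p M := by
    intro q
    by_cases hq : q ∈ π
    swap
    · exact ⟨⊥, fun h => absurd h hq⟩
    obtain ⟨hqP, hqp, hqd⟩ := hπ q hq
    haveI := Fact.mk hqP
    obtain ⟨Q⟩ : Nonempty (Sylow q G) := inferInstance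
    obtain ⟨M, ⟨hM, hQM⟩, -⟩ := c.sylow_unique hodd hqp hqd Q
    have hQW := c.sylow_le_core hodd hqp hqd Q hM hQM
    have hne : ∀ (M : Subgroup G) (Q : Sylow q G), (Q : Subgroup G) ≤ core p M → core p M ≠ ⊥ :=
      fun M Q h e => c.sylow_ne_bot hodd hqd Q (le_bot_iff.1 (e ▸ h))
    by_cases hidx : p ∣ M.index
    · exact ⟨M, fun _ => ⟨hM, hne M Q hQW, Or.inl hidx, inferInstance, Q, hQW⟩⟩
    obtain ⟨S⟩ : Nonempty (Sylow p M) := inferInstance
    obtain ⟨T, hT⟩ := (S.2.map M.subtype).exists_le_sylow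
    have hTM : (T : Subgroup G) ≤ M := by
      have hTS : (S : Subgroup M).map M.subtype = T := by
        refine le_antisymm hT ?_
        by_contra h
        obtain ⟨j, hj⟩ := T.2.index (((S : Subgroup M).map M.subtype).subgroupOf T)
        rcases j with _ | j
        · rw [pow_zero] at hj
          exact h (relIndex_eq_one.1 hj)
        · have hd : p ∣ ((S : Subgroup M).map M.subtype).index := by
            refine dvd_trans ?_ (Dvd.intro _ (relIndex_mul_index hT))
            rw [relIndex, hj]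
            exact dvd_pow_self p (Nat.succ_ne_zero j)
          rw [← relIndex_mul_index (map_subtype_le (S : Subgroup M)), relIndex, ← comap_subtype,
            comap_map_eq_self_of_injective M.subtype_injective] at hd
          rcases hp.out.dvd_mul.1 hd with h1 | h1
          · exact S.not_dvd_index h1
          · exact hidx h1
      exact hTS ▸ map_subtype_le _
    obtain ⟨g, hg⟩ := MulAction.exists_smul_eq G T P
    refine ⟨M.map (MulAut.conj g).toMonoidHom, fun _ => ?_⟩
    have hQ' : ((g • Q : Sylow q G) : Subgroup G) ≤ core p (M.map (MulAut.conj g).toMonoidHom) :=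
      (map_mono hQW).trans (core_conj_le M g)
    refine ⟨Uniq.coatom_conj hM g, hne _ _ hQ', Or.inr ?_, inferInstance, g • Q, hQ'⟩
    rw [← hg]
    exact map_mono hTM
  choose M hM using hchoice
  -- one for each class
  set Rel : ℕ → ℕ → Prop := fun r q => ∃ g : G, (M q).map (MulAut.conj g).toMonoidHom = M r
  set π0 := π.filter fun q => ∀ r ∈ π, r < q → ¬ Rel r q
  have hπ0 : π0 ⊆ π := Finset.filter_subset _ _
  have hne : ∀ i ∈ π0, ∀ j ∈ π0, ∀ g : G, (M j).map (MulAut.conj g).toMonoidHom = M i → i = j := by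
    intro i hi j hj g hg
    rw [Finset.mem_filter] at hi hj
    rcases lt_trichotomy i j with h | h | h
    · exact absurd ⟨g, hg⟩ (hj.2 i hi.1 h)
    · exact h
    · refine absurd ⟨g⁻¹, ?_⟩ (hi.2 j hj.1 h)
      rw [← hg]
      exact Uniq.map_conj_inv _ _
  have hrep : ∀ q ∈ π, ∃ j ∈ π0, Rel j q := by
    intro q hq
    set T := π.filter fun r => Rel r q
    have hTne : T.Nonempty := ⟨q, Finset.mem_filter.2 ⟨hq, 1, TH.map_conj_one _⟩⟩
    obtain ⟨hjπ, g, hg⟩ := Finset.mem_filter.1 (T.min'_mem hTne)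
    refine ⟨T.min' hTne, Finset.mem_filter.2 ⟨hjπ, fun r hr hlt => ?_⟩, g, hg⟩
    rintro ⟨g', hg'⟩
    refine not_lt.2 (T.min'_le r (Finset.mem_filter.2 ⟨hr, g' * g, ?_⟩)) hlt
    rw [← hg', ← hg, TH.map_conj_map_conj]
  -- the `p`-subgroup chosen in each
  have hRchoice : ∀ j : ℕ, ∃ S : Sylow p (M j), (P : Subgroup G) ≤ M j →
      (S : Subgroup (M j)).map (M j).subtype = P := by
    intro j
    by_cases h : (P : Subgroup G) ≤ M j
    · exact ⟨P.subtype h, fun _ => by rw [Sylow.coe_subtype, map_subgroupOf_eq_of_le h]⟩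
    · exact ⟨Classical.arbitrary _, fun h' => absurd h' h⟩
  choose S hS using hRchoice
  set R : ℕ → Subgroup G := fun j => (S j : Subgroup (M j)).map (M j).subtype
  -- covering
  have hcov : (Set.univ : Set G) ⊆ {1} ∪ pElts p G ∪ ⋃ j ∈ π0, cover p (M j) (R j) := by
    intro g _
    by_cases hg1 : g = 1
    · exact Or.inl (Or.inl hg1)
    by_cases hgp : ∃ k, orderOf g = p ^ k
    · exact Or.inl (Or.inr ⟨hg1, hgp⟩)
    right
    obtain ⟨q, hq, hqd, hqp⟩ : ∃ q : ℕ, q.Prime ∧ q ∣ orderOf g ∧ q ≠ p := by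
      by_contra hno
      push Not at hno
      exact hgp ⟨_, Nat.eq_prime_pow_of_unique_prime_dvd (orderOf_pos g).ne' fun {d} hd hd' => hno d hd hd'⟩
    have hqπ : q ∈ π := by
      rw [Finset.mem_erase, Nat.mem_primeFactors]
      exact ⟨hqp, hq, hqd.trans (_root_.orderOf_dvd_natCard g), Nat.card_pos.ne'⟩
    obtain ⟨hMq, hWq, -, _, Q, hQ⟩ := hM q hqπ
    haveI := Fact.mk hq
    set y := g ^ (orderOf g / q)
    have hyo : orderOf y = q := by
      rw [orderOf_pow, Nat.gcd_eq_right (Nat.div_dvd_of_dvd hqd), Nat.div_div_self hqd (orderOf_pos g).ne']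
    obtain ⟨Q', hQ'⟩ := (IsPGroup.of_card (n := 1) (by rw [Nat.card_zpowers, hyo, pow_one]) :
      IsPGroup q (zpowers y)).exists_le_sylow
    obtain ⟨b, hb⟩ := MulAction.exists_smul_eq G Q Q'
    have hyQ : b⁻¹ * y * b ∈ (Q : Subgroup G) := by
      have := hQ' (mem_zpowers y)
      rw [← hb, Sylow.coe_subgroup_smul] at this
      exact mem_map_conj.1 this
    have hgb : b⁻¹ * g * b ∈ M q := by
      refine c.centralizer_le hodd hMq (hQ hyQ) (fun e => hq.ne_one ?_) (mem_centralizer_singleton_iff.2 ?_)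
      · rw [← hyo, orderOf_eq_one_iff]
        calc y = b * (b⁻¹ * y * b) * b⁻¹ := by group
          _ = 1 := by rw [e]; group
      · calc b⁻¹ * g * b * (b⁻¹ * y * b) = b⁻¹ * (g * y) * b := by group
          _ = b⁻¹ * (y * g) * b := by rw [(Commute.self_pow g (orderOf g / q)).eq]
          _ = _ := by group
    obtain ⟨j, hj, a, ha⟩ := hrep q hqπ
    obtain ⟨hMj, hWj, -, -⟩ := hM j (hπ0 hj)
    have hmem : a * (b⁻¹ * g * b) * a⁻¹ ∈ M j := ha ▸ ⟨_, hgb, rfl⟩
    set z := b * a⁻¹
    have hz : z⁻¹ * g * z ∈ M j := by simpa [z, mul_assoc] using hmem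
    obtain ⟨m, hm⟩ := QuotientGroup.mk_out_eq_mul (M j) z
    set o := (QuotientGroup.mk z : G ⧸ M j).out
    have ho : o⁻¹ * g * o ∈ M j := by
      rw [hm]
      simpa [mul_assoc] using mul_mem (mul_mem (inv_mem m.2) hz) m.2
    have hop : ¬ ∃ k, orderOf (o⁻¹ * g * o) = p ^ k := by
      rw [show o⁻¹ * g * o = MulAut.conj o⁻¹ g by simp, MulEquiv.orderOf_eq]
      exact hgp
    obtain ⟨w, hw, r, hr, hwr⟩ := c.factor hodd hMj hWj (S j) ho hop
    refine Set.mem_biUnion hj ⟨(QuotientGroup.mk z, ⟨w, hw⟩, ⟨r, hr⟩), ?_⟩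
    show o * (w * r) * o⁻¹ = g
    rw [← hwr]; group
  set n := Nat.card G
  set a : ℕ → ℕ := fun j => (M j).index * (Nat.card (core p (M j)) * Nat.card (fixSet p (M j) (R j)))
  have hn1 : n ≤ 1 + Nat.card (pElts p G) + ∑ j ∈ π0, a j := by
    have h1 := Nat.card_mono (Set.toFinite _) hcov
    rw [Nat.card_univ] at h1
    refine h1.trans ?_
    simp only [Nat.card_coe_set_eq]
    refine (Set.ncard_union_le _ _).trans (Nat.add_le_add ?_ ?_)
    · exact (Set.ncard_union_le _ _).trans (by rw [Set.ncard_singleton])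
    · refine (Finset.set_ncard_biUnion_le π0 _).trans (Finset.sum_le_sum fun j _ => ?_)
      rw [← Nat.card_coe_set_eq]
      exact card_cover_le _ _
  -- `P` and its normalizer
  set N := normalizer ((P : Subgroup G) : Set G)
  set d := (P : Subgroup G).relIndex N
  have hP1 : (P : Subgroup G) ≠ ⊥ := P.ne_bot_of_dvd_card c.hdvd
  have hPp : p ≤ Nat.card (P : Subgroup G) := by
    refine Nat.le_of_dvd Nat.card_pos ?_
    rw [P.card_eq_multiplicity]
    exact dvd_pow_self p ((hp.out.factorization_pos_of_dvd Nat.card_pos.ne' c.hdvd).ne')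
  have hNtop : N ≠ ⊤ := c.normalizer_ne_top hP1 (c.ne_top_of_isPGroup P.2)
  have hn : Nat.card (P : Subgroup G) * (d * N.index) = n := by
    rw [relIndex_mul_index le_normalizer, card_mul_index]
  have hd : 3 ≤ d := by
    have hdn : d ∣ n := Dvd.intro _ (show d * (Nat.card (P : Subgroup G) * N.index) = n by rw [← hn]; ring)
    have hdodd : Odd d := hodd.of_dvd_nat hdn
    rcases Nat.lt_or_ge d 3 with h | h
    swap
    · exact h
    exfalso
    have hd1 : d = 1 := by obtain ⟨k, hk⟩ := hdodd; omega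
    have hNP : N ≤ (P : Subgroup G) := relIndex_eq_one.1 hd1
    apply hP1
    rw [(Cfsg.Agent.S1411.result hG p P ⊥ ⟨le_normalizer, bot_le, inf_bot_eq _, fun m hm =>
      ⟨m, hNP hm, 1, one_mem _, (mul_one m).symm⟩⟩).1, commutator_bot_right]
  have hn30 : 21 < n := by
    have h2 : 2 ≤ N.index := by
      have h0 : N.index ≠ 0 := index_ne_zero_of_finite
      have h1 : N.index ≠ 1 := fun h => hNtop (index_eq_one.1 h)
      omega
    have := c.hp5
    rw [← hn]
    calc 21 < 5 * (3 * 2) := by norm_num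
      _ ≤ _ := Nat.mul_le_mul (this.trans hPp) (Nat.mul_le_mul hd h2)
  have hpe : 3 * Nat.card (pElts p G) ≤ n := (Nat.mul_le_mul_right _ hd).trans (card_pElts_le P)
  have hcardM : ∀ j ∈ π0, Nat.card (core p (M j)) * Nat.card (R j) = Nat.card (M j) := fun j hj => by
    obtain ⟨hMj, hWj, -, -⟩ := hM j (hπ0 hj)
    rw [card_map_of_injective (M j).subtype_injective]
    exact (c.compl hodd hMj hWj (S j)).2.1
  have ha : ∀ j ∈ π0, a j * Nat.card (R j) = n * Nat.card (fixSet p (M j) (R j)) := fun j hj => by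
    show a j * Nat.card (R j) = Nat.card G * _
    rw [← (M j).card_mul_index, ← hcardM j hj]
    show (M j).index * (Nat.card (core p (M j)) * Nat.card (fixSet p (M j) (R j))) * Nat.card (R j) = _
    ring
  set J1 := π0.filter fun j => (P : Subgroup G) ≤ M j
  set J2 := π0.filter fun j => ¬ (P : Subgroup G) ≤ M j
  have hJ1 : ∀ j ∈ J1, j ∈ π0 ∧ R j = P := fun j hj =>
    ⟨(Finset.mem_filter.1 hj).1, hS j (Finset.mem_filter.1 hj).2⟩
  have hA : 3 * p * ∑ j ∈ J1, a j ≤ n * (p + 3 * J1.card) := by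
    have hsum := c.sum_fixSet_le hodd J1 M P P.2 (fun j hj => (hM j (hπ0 (hJ1 j hj).1)).1)
      (fun j hj => (hM j (hπ0 (hJ1 j hj).1)).2.1) (fun j hj => (Finset.mem_filter.1 hj).2)
      (fun i hi j hj => hne i (hJ1 i hi).1 j (hJ1 j hj).1) (D := 3) fun j hj => by
        rw [c.relIndex_normalizer hodd (hM j (hπ0 (hJ1 j hj).1)).1 (hM j (hπ0 (hJ1 j hj).1)).2.1 P
          (Finset.mem_filter.1 hj).2]
        exact hd
    set f : ℕ → ℕ := fun j => Nat.card (fixSet p (M j) (P : Subgroup G))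
    have hf : ∑ j ∈ J1, f j ≤ ∑ j ∈ J1, (f j - 1) + J1.card := by
      rw [Finset.card_eq_sum_ones, ← Finset.sum_add_distrib]
      exact Finset.sum_le_sum fun j _ => by omega
    have e : (∑ j ∈ J1, a j) * Nat.card (P : Subgroup G) = n * ∑ j ∈ J1, f j := by
      rw [Finset.sum_mul, Finset.mul_sum]
      refine Finset.sum_congr rfl fun j hj => ?_
      rw [← (hJ1 j hj).2, ha j (hJ1 j hj).1]
      show _ = n * Nat.card (fixSet p (M j) (P : Subgroup G))
      rw [(hJ1 j hj).2]
    refine Nat.le_of_mul_le_mul_right ?_ (Nat.card_pos (α := (P : Subgroup G)))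
    calc 3 * p * (∑ j ∈ J1, a j) * Nat.card (P : Subgroup G)
        = n * (p * (3 * ∑ j ∈ J1, f j)) := by rw [mul_assoc, e]; ring
      _ ≤ n * (p * (Nat.card (P : Subgroup G) + 3 * J1.card)) :=
          Nat.mul_le_mul_left _ (Nat.mul_le_mul_left _ (by
            change 3 * ∑ j ∈ J1, (f j - 1) ≤ _ at hsum
            omega))
      _ ≤ n * ((p + 3 * J1.card) * Nat.card (P : Subgroup G)) := Nat.mul_le_mul_left _ (by nlinarith)
      _ = _ := by ring
  have hB : 3 * p * ∑ j ∈ J2, a j ≤ n * (6 * J2.card) := by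
    rw [Finset.mul_sum, show n * (6 * J2.card) = J2.card * (n * 6) by ring, ← smul_eq_mul (J2.card),
      ← Finset.sum_const]
    refine Finset.sum_le_sum fun j hj => ?_
    obtain ⟨hj0, hjP⟩ := Finset.mem_filter.1 hj
    obtain ⟨hMj, hWj, hor, -⟩ := hM j (hπ0 hj0)
    have hsum := c.sum_fixSet_le hodd {j} M (R j) ((S j).2.map _)
      (fun i hi => (Finset.mem_singleton.1 hi) ▸ hMj) (fun i hi => (Finset.mem_singleton.1 hi) ▸ hWj)
      (fun i hi => (Finset.mem_singleton.1 hi) ▸ map_subtype_le _)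
      (fun i hi i' hi' _ _ => (Finset.mem_singleton.1 hi).trans (Finset.mem_singleton.1 hi').symm)
      (D := p) fun i hi => (Finset.mem_singleton.1 hi) ▸ c.le_relIndex hodd (hor.resolve_right hjP) (S j)
    rw [Finset.sum_singleton] at hsum
    have hpR : p ≤ Nat.card (R j) := by
      rw [card_map_of_injective (M j).subtype_injective, (S j).card_eq_multiplicity]
      exact Nat.le_self_pow (hp.out.factorization_pos_of_dvd Nat.card_pos.ne'
        (c.sigma_facts hodd hMj hWj).1).ne' p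
    refine Nat.le_of_mul_le_mul_right ?_ (Nat.card_pos (α := R j))
    calc 3 * p * a j * Nat.card (R j) = 3 * n * (p * Nat.card (fixSet p (M j) (R j))) := by
          rw [mul_assoc, ha j hj0]; ring
      _ ≤ 3 * n * (2 * Nat.card (R j)) := Nat.mul_le_mul_left _ (by
          have : Nat.card (fixSet p (M j) (R j)) ≤ (Nat.card (fixSet p (M j) (R j)) - 1) + 1 := by omega
          nlinarith)
      _ = _ := by ring
  have hJ : J1.card + J2.card = π0.card := Finset.card_filter_add_card_filter_not _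
  have hsplit : ∑ j ∈ π0, a j = ∑ j ∈ J1, a j + ∑ j ∈ J2, a j :=
    (Finset.sum_filter_add_sum_filter_not π0 _ a).symm
  -- few classes
  have hprod : 2 * ∏ q ∈ π, q ∣ p - 1 := by
    have h2 : (2 : ℕ) ∉ π := fun h => by
      obtain ⟨k, hk⟩ := hodd
      have := (hπ 2 h).2.2
      omega
    rw [← Finset.prod_insert (f := fun q : ℕ => q) h2]
    refine Finset.prod_primes_dvd _ (fun q hq => ?_) (fun q hq => ?_)
    · rw [Finset.mem_insert] at hq
      rcases hq with rfl | hq
      · exact Nat.prime_two.prime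
      · exact (hπ q hq).1.prime
    · rw [Finset.mem_insert] at hq
      rcases hq with rfl | hq
      · rcases hp.out.eq_two_or_odd with h | h
        · exact absurd h (c.p_ne_two hodd)
        · omega
      · haveI := Fact.mk (hπ q hq).1
        exact c.hyp.prime_dvd_pred (hπ q hq).2.1 (hπ q hq).2.2
  have hthree : 3 ^ π0.card ≤ ∏ q ∈ π, q := by
    refine le_trans (Nat.pow_le_pow_right (by norm_num) (Finset.card_le_card hπ0)) ?_
    refine Finset.pow_card_le_prod π _ 3 fun q hq => ?_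
    obtain ⟨hqP, -, hqd⟩ := hπ q hq
    have := hqP.two_le
    have : q ≠ 2 := fun e => by
      subst e
      obtain ⟨k, hk⟩ := hodd
      omega
    omega
  have h7 : 7 * π0.card ≤ p := by
    have h1 : 2 * 3 ^ π0.card ≤ p - 1 :=
      (Nat.mul_le_mul_left 2 hthree).trans (Nat.le_of_dvd (by have := c.hp5; omega) hprod)
    have h2 : ∀ t : ℕ, 7 * t ≤ 2 * 3 ^ t + 1 := by
      intro t
      induction t with
      | zero => simp
      | succ t ih =>
        rcases t with _ | t
        · norm_num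
        · have : 3 ≤ 3 ^ (t + 1) := Nat.le_self_pow (Nat.succ_ne_zero t) 3
          rw [pow_succ 3 (t + 1)]
          omega
    have := h2 π0.card
    have := c.hp5
    omega
  have hmain : p * n ≤ 3 * p + 6 * π0.card * n := by
    have h1 : 3 * p * n ≤ 3 * p * (1 + Nat.card (pElts p G) + ∑ j ∈ π0, a j) := Nat.mul_le_mul_left _ hn1
    have h2 : p * (3 * Nat.card (pElts p G)) ≤ p * n := Nat.mul_le_mul_left _ hpe
    rw [hsplit] at h1
    rw [← hJ]
    nlinarith
  have h8 : 7 * (p * n) ≤ 7 * (3 * p) + 6 * (p * n) := by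
    have : 7 * π0.card * n ≤ p * n := Nat.mul_le_mul_right _ h7
    nlinarith
  have h9 : p * n ≤ p * 21 := by omega
  exact absurd (Nat.le_of_mul_le_mul_left h9 hp.out.pos) (not_le.2 hn30)

end CfsgLib.PPrimeAb
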